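import Groth.Prelude.Def_GrSyz
import Groth.Prelude.Def_GrLC

/-!
# Order lemmas for extended integers, `endDeg` and `reg`
-/

set_option autoImplicit false
universe u

open GrLC GrSyz

namespace K859.EndDeg

/-- the embedding of the integers in the extended integers -/
abbrev co (r : ℤ) : WithBot (WithTop ℤ) := ((r : WithTop ℤ) : WithBot (WithTop ℤ))

theorem iInf_le_co {s : WithBot (WithTop ℤ)} {r : ℤ} (h : s ≤ co r) :
    (⨅ (r : ℤ) (_ : s ≤ co r), co r) ≤ co r :=
  iInf_le_of_le r (iInf_le_of_le h le_rfl)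

/-- an extended integer is the infimum of the integers above it -/
theorem iInf_int_eq (s : WithBot (WithTop ℤ)) :
    (⨅ (r : ℤ) (_ : s ≤ co r), co r) = s := by
  apply le_antisymm
  · induction s using WithBot.recBotCoe with
    | bot =>
      rw [le_bot_iff]
      by_contra h
      have key : ∀ n : ℤ, (⨅ (r : ℤ) (_ : (⊥ : WithBot (WithTop ℤ)) ≤ co r), co r) ≤ co n :=
        fun n => iInf_le_co bot_le
      generalize (⨅ (r : ℤ) (_ : (⊥ : WithBot (WithTop ℤ)) ≤ co r), co r) = t at h key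
      obtain ⟨t', rfl⟩ := WithBot.ne_bot_iff_exists.1 h
      induction t' using WithTop.recTopCoe with
      | top =>
        exact absurd (WithBot.coe_le_coe.1 (key 0)) (not_le.2 (WithTop.coe_lt_top _))
      | coe n =>
        have h2 := WithTop.coe_le_coe.1 (WithBot.coe_le_coe.1 (key (n - 1)))
        omega
    | coe s =>
      induction s using WithTop.recTopCoe with
      | top => exact le_top
      | coe n => exact iInf_le_co le_rfl
  · exact le_iInf₂ fun r hr => hr

theorem eq_of_forall_le_iff {s t : WithBot (WithTop ℤ)}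
    (h : ∀ r : ℤ, s ≤ ((r : WithTop ℤ) : WithBot (WithTop ℤ)) ↔
      t ≤ ((r : WithTop ℤ) : WithBot (WithTop ℤ))) : s = t := by
  rw [← iInf_int_eq s, ← iInf_int_eq t]
  simp only [h]

theorem coe_le_coe {m n : ℤ} :
    ((m : WithTop ℤ) : WithBot (WithTop ℤ)) ≤ ((n : WithTop ℤ) : WithBot (WithTop ℤ)) ↔ m ≤ n := by
  rw [WithBot.coe_le_coe, WithTop.coe_le_coe]

theorem endDeg_le_iff {M : Type u} [AddCommGroup M] (ℳ : ℤ → AddSubgroup M) (r : ℤ) :
    endDeg ℳ ≤ ((r : WithTop ℤ) : WithBot (WithTop ℤ)) ↔ ∀ n : ℤ, r < n → ℳ n = ⊥ := by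
  rw [endDeg, iSup₂_le_iff]
  constructor
  · intro h n hn
    by_contra h'
    have := coe_le_coe.1 (h n h')
    omega
  · intro h n hn
    rw [coe_le_coe]
    by_contra h'
    exact hn (h n (by omega))

theorem add_le_iff (s : WithBot (WithTop ℤ)) (i r : ℤ) :
    s + (((i : ℤ) : WithTop ℤ) : WithBot (WithTop ℤ)) ≤ ((r : WithTop ℤ) : WithBot (WithTop ℤ)) ↔
      s ≤ (((r - i : ℤ) : WithTop ℤ) : WithBot (WithTop ℤ)) := by
  induction s using WithBot.recBotCoe with
  | bot => rw [WithBot.bot_add]; exact ⟨fun _ => bot_le, fun _ => bot_le⟩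
  | coe s =>
    induction s using WithTop.recTopCoe with
    | top =>
      rw [← WithBot.coe_add, WithTop.top_add, WithBot.coe_le_coe, WithBot.coe_le_coe]
      exact ⟨fun h => absurd h (not_le.2 (WithTop.coe_lt_top _)),
        fun h => absurd h (not_le.2 (WithTop.coe_lt_top _))⟩
    | coe n =>
      rw [← WithBot.coe_add, ← WithTop.coe_add, coe_le_coe, coe_le_coe]
      omega

theorem endDeg_add_le_iff {M : Type u} [AddCommGroup M] (ℳ : ℤ → AddSubgroup M) (i r : ℤ) :
    endDeg ℳ + (((i : ℤ) : WithTop ℤ) : WithBot (WithTop ℤ))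
        ≤ ((r : WithTop ℤ) : WithBot (WithTop ℤ)) ↔ ∀ n : ℤ, r < i + n → ℳ n = ⊥ := by
  rw [add_le_iff, endDeg_le_iff]
  exact ⟨fun h n hn => h n (by omega), fun h n hn => h n (by omega)⟩

section reg

variable {R : Type u} [CommRing R] {σ' : Type u} [SetLike σ' R]
  (𝒜 : ℤ → σ')
  {M : Type u} [AddCommGroup M] [Module R M] {τ : Type u} [SetLike τ M] [AddSubgroupClass τ M]
  (ℳ : ℤ → τ) [DirectSum.Decomposition ℳ] [SetLike.GradedSMul 𝒜 ℳ]

/-- recognising the regularity -/
theorem reg_eq_of_iff {𝔪 : Ideal R} {s : WithBot (WithTop ℤ)}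
    (h : ∀ r : ℤ, IsRegLE 𝒜 ℳ 𝔪 r ↔ s ≤ ((r : WithTop ℤ) : WithBot (WithTop ℤ))) :
    reg 𝒜 ℳ 𝔪 = s := by
  rw [reg]
  simp only [h]
  exact iInf_int_eq s

end reg

end K859.EndDeg
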