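import Groth.Agent.GrSyz.K859.Main
import Groth.Agent.GrSyz.K859.EndDeg
import Groth.Agent.GrSyz.K860.Betti
import Mathlib.RingTheory.FiniteLength
import Mathlib.RingTheory.Regular.RegularSequence
import Mathlib.RingTheory.Artinian.Module

/-!
# Regularity of a graded module over a polynomial ring: resolution side = local cohomology side
-/

set_option autoImplicit false
set_option linter.unusedSectionVars false
universe u

open GrLC GrSyz DirectSum K759.Gr K759.GrObj K859.Van K859.DReg K859.EndDeg K859.Main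
  K859.Std MvPolynomial

namespace K859.Final

section general

variable {R : Type u} [CommRing R] {σ : Type u} [SetLike σ R]
  [AddSubgroupClass σ R] {𝒜 : ℤ → σ} [GradedRing 𝒜]
variable {M : Type u} [AddCommGroup M] [Module R M] {τ : Type u} [SetLike τ M] [AddSubgroupClass τ M]
  {ℳ : ℤ → τ} [DirectSum.Decomposition ℳ] [SetLike.GradedSMul 𝒜 ℳ]

theorem Hgr_eq_bot_iff (E : StarInjRes 𝒜 ℳ) (a : HomogeneousIdeal 𝒜) (i : ℕ) (e : ℤ) :
    E.Hgr a i e = ⊥ ↔ E.Hcomp a i e = ⊥ := by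
  constructor
  · intro h
    rw [eq_bot_iff]
    intro x hx
    have : x ∈ E.Hgr a i e := hx
    rw [h] at this
    exact this
  · intro h
    rw [eq_bot_iff]
    intro x hx
    have : x ∈ E.Hcomp a i e := hx
    rw [h] at this
    exact this

theorem dreg_iff_endDeg {a : HomogeneousIdeal 𝒜} (E : StarInjRes 𝒜 ℳ) (d : ℤ) :
    DReg a ℳ d ↔ ∀ i : ℕ, endDeg (E.Hgr a i) + (((i : ℤ) : WithTop ℤ) : WithBot (WithTop ℤ))
      ≤ ((d : WithTop ℤ) : WithBot (WithTop ℤ)) := by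
  refine forall_congr' fun i => ?_
  rw [endDeg_add_le_iff]
  refine forall_congr' fun e => imp_congr_right fun _ => ?_
  rw [van_iff a E, Hgr_eq_bot_iff]

theorem dreg_iff_iSup {a : HomogeneousIdeal 𝒜} (E : StarInjRes 𝒜 ℳ) (d : ℤ) :
    DReg a ℳ d ↔ (⨆ i : ℕ, (endDeg (E.Hgr a i) + (((i : ℤ) : WithTop ℤ) : WithBot (WithTop ℤ))))
      ≤ ((d : WithTop ℤ) : WithBot (WithTop ℤ)) := by
  rw [iSup_le_iff, dreg_iff_endDeg E]

theorem endDeg_zero_le_iff {a : HomogeneousIdeal 𝒜} (E : StarInjRes 𝒜 ℳ) (d : ℤ) :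
    endDeg (E.Hgr a 0) ≤ ((d : WithTop ℤ) : WithBot (WithTop ℤ)) ↔
      ∀ e : ℤ, d < e → Van a ℳ 0 e := by
  rw [endDeg_le_iff]
  refine forall_congr' fun e => imp_congr_right fun _ => ?_
  rw [van_iff a E, Hgr_eq_bot_iff]

/-- `d`-regularity from the vanishing on one diagonal -/
theorem dreg_iff_diag [IsNoetherianRing R] {a : HomogeneousIdeal 𝒜}
    (ha : a.toIdeal = Ideal.span (𝒜 1 : Set R)) (E : StarInjRes 𝒜 ℳ) (d : ℤ) :
    DReg a ℳ d ↔ (endDeg (E.Hgr a 0) ≤ ((d : WithTop ℤ) : WithBot (WithTop ℤ)) ∧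
      ∀ i : ℕ, 0 < i → E.Hcomp a i (d - (i : ℤ) + 1) = ⊥) := by
  rw [endDeg_zero_le_iff]
  constructor
  · intro h
    exact ⟨fun e he => h 0 e (by simpa using he), fun i hi => h i _ (by omega) E⟩
  · rintro ⟨h0, h1⟩ i e hie
    cases i with
    | zero => exact h0 e (by simpa using hie)
    | succ i =>
      have := K859.Diag.diag ℳ ha (r := d) (l := 1) le_rfl (fun j hj => by
        rw [van_iff a E]
        have := h1 j hj
        rwa [show d - (j : ℤ) + 1 = d + 1 - j by ring] at this) (i + 1) (by omega)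
        (e + (i + 1 : ℕ)) (by omega)
      rwa [add_sub_cancel_right] at this

end general

section poly

variable {k : Type u} [Field k] {m : ℕ}

theorem irrel_eq_span_one : (irrel (stdGr k (Fin m))).toIdeal
      = Ideal.span (stdGr k (Fin m) 1 : Set (MvPolynomial (Fin m) k)) := by
  apply le_antisymm
  · rw [irrel_eq_span_X]
    refine Ideal.span_mono ?_
    rintro _ ⟨j, rfl⟩
    exact X_mem_stdGr_one j
  · rw [Ideal.span_le]
    intro p hp
    exact Ideal.subset_span ⟨1, one_pos, hp⟩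

variable {M : Type u} [AddCommGroup M] [Module k M] [Module (MvPolynomial (Fin m) k) M]
    [IsScalarTower k (MvPolynomial (Fin m) k) M]
    {ℳ : ℤ → Submodule k M} [DirectSum.Decomposition ℳ] [SetLike.GradedSMul (stdGr k (Fin m)) ℳ]

theorem isGenLE_iff_dreg (F : FreeRes (stdGr k (Fin m)) ℳ)
    (hF : F.IsMinimal (irrel (stdGr k (Fin m))).toIdeal) (d : ℤ) :
    F.IsGenLE d ↔ DReg (irrel (stdGr k (Fin m))) ℳ d :=
  ⟨fun h => dreg_of_isGenLE (m + 1) F d
    (fun i hi => K860.Betti.hasLengthLE_numVars hF i (by omega)) h,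
    fun h i b => isGenLE_of_dreg i F d hF h b⟩

variable [Module.Finite (MvPolynomial (Fin m) k) M]

theorem isRegLE_iff_dreg (d : ℤ) :
    IsRegLE (stdGr k (Fin m)) ℳ (irrel (stdGr k (Fin m))).toIdeal d ↔
      DReg (irrel (stdGr k (Fin m))) ℳ d := by
  constructor
  · rintro ⟨F, hF, h⟩
    exact (isGenLE_iff_dreg F hF d).1 h
  · intro h
    obtain ⟨F, hF⟩ := K859.MinGen.exists_freeRes_isMinimal (k := k) (σ := Fin m) ℳ
    exact ⟨F, hF, (isGenLE_iff_dreg F hF d).2 h⟩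

/-- the regularity is computed by graded local cohomology -/
theorem reg_le_iff (d : ℤ) :
    reg (stdGr k (Fin m)) ℳ (irrel (stdGr k (Fin m))).toIdeal
      ≤ ((d : WithTop ℤ) : WithBot (WithTop ℤ)) ↔ DReg (irrel (stdGr k (Fin m))) ℳ d := by
  obtain ⟨E⟩ := K963.Iface.nonempty_res (stdGr k (Fin m)) ℳ
  have := reg_eq_of_iff (stdGr k (Fin m)) ℳ (𝔪 := (irrel (stdGr k (Fin m))).toIdeal)
    (s := ⨆ i : ℕ, (endDeg (E.Hgr (irrel (stdGr k (Fin m))) i)
      + (((i : ℤ) : WithTop ℤ) : WithBot (WithTop ℤ)))) (fun r => by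
      rw [isRegLE_iff_dreg, dreg_iff_iSup E])
  rw [this, ← dreg_iff_iSup E]

theorem reg_eq_iSup_endDeg (E : StarInjRes (stdGr k (Fin m)) ℳ) :
    reg (stdGr k (Fin m)) ℳ (irrel (stdGr k (Fin m))).toIdeal =
      ⨆ i : ℕ, (endDeg (E.Hgr (irrel (stdGr k (Fin m))) i)
        + (((i : ℤ) : WithTop ℤ) : WithBot (WithTop ℤ))) :=
  K859.EndDeg.eq_of_forall_le_iff fun r => by rw [reg_le_iff, dreg_iff_iSup E]

theorem reg_eq_iSup_maxGenDeg (F : FreeRes (stdGr k (Fin m)) ℳ)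
    (hF : F.IsMinimal (irrel (stdGr k (Fin m))).toIdeal) :
    reg (stdGr k (Fin m)) ℳ (irrel (stdGr k (Fin m))).toIdeal =
      ⨆ i : ℕ, WithBot.map (fun t : ℤ => ((t - (i : ℤ) : ℤ) : WithTop ℤ)) (F.maxGenDeg i) := by
  refine K859.EndDeg.eq_of_forall_le_iff fun r => ?_
  rw [reg_le_iff, ← isGenLE_iff_dreg F hF, iSup_le_iff]
  refine forall_congr' fun i => ?_
  have h1 : ∀ s : WithBot ℤ, WithBot.map (fun t : ℤ => ((t - (i : ℤ) : ℤ) : WithTop ℤ)) s
      ≤ ((r : WithTop ℤ) : WithBot (WithTop ℤ)) ↔ s ≤ ((r + i : ℤ) : WithBot ℤ) := by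
    intro s
    induction s using WithBot.recBotCoe with
    | bot => exact ⟨fun _ => bot_le, fun _ => bot_le⟩
    | coe t =>
      rw [WithBot.map_coe, coe_le_coe, WithBot.coe_le_coe]
      omega
  rw [h1, FreeRes.maxGenDeg, Finset.sup_le_iff]
  constructor
  · intro h b _
    exact WithBot.coe_le_coe.2 (h b)
  · intro h b
    exact WithBot.coe_le_coe.1 (h b (Finset.mem_univ b))

end poly

end K859.Final
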