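import Groth.Prelude.Def_GrSyz

/-!
# Gradings from projections; the shifted grading on a finite free module
-/

set_option autoImplicit false
universe u v w

namespace K859.Gr

open DirectSum

section Dec

variable {ι : Type v} [DecidableEq ι] {N : Type w} [AddCommGroup N]

/-- a decomposition constructed from its family of projections -/
@[reducible] noncomputable def decOfProj (𝒩 : ι → AddSubgroup N) (π : ι → N →+ N)
    (s : N → Finset ι) (hmem : ∀ i x, π i x ∈ 𝒩 i)
    (hs : ∀ x, ∀ i ∉ s x, π i x = 0) (hsum : ∀ x, ∑ i ∈ s x, π i x = x)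
    (hself : ∀ i, ∀ x ∈ 𝒩 i, π i x = x) (hne : ∀ i j, i ≠ j → ∀ x ∈ 𝒩 i, π j x = 0) :
    Decomposition 𝒩 where
  decompose' x := DirectSum.mk (fun i => 𝒩 i) (s x) (fun i => ⟨π i x, hmem i x⟩)
  left_inv x := by
    classical
    change DirectSum.coeAddMonoidHom 𝒩 (DirectSum.mk (fun i => 𝒩 i) (s x) _) = x
    rw [DirectSum.coeAddMonoidHom_eq_dfinsuppSum]
    rw [DFinsupp.sum, Finset.sum_subset (s₂ := s x)]
    · conv_rhs => rw [← hsum x]
      refine Finset.sum_congr rfl fun i hi => ?_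
      rw [DirectSum.mk_apply_of_mem hi]
    · intro i hi
      by_contra h
      rw [DFinsupp.mem_support_iff] at hi
      exact hi (DirectSum.mk_apply_of_notMem h)
    · intro i _ hi
      rw [DFinsupp.notMem_support_iff] at hi
      rw [hi]; rfl
  right_inv y := by
    classical
    change DirectSum.mk (fun i => 𝒩 i) (s _) _ = y
    refine DFinsupp.ext fun j => ?_
    have key : π j (DirectSum.coeAddMonoidHom 𝒩 y) = y j := by
      induction y using DirectSum.induction_on with
      | zero => simp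
      | of i x =>
        rw [DirectSum.coeAddMonoidHom_of]
        by_cases h : i = j
        · subst h
          rw [hself i _ x.2, DirectSum.of_eq_same]
        · rw [hne i j h _ x.2, DirectSum.of_eq_of_ne _ _ _ (Ne.symm h)]
          rfl
      | add x y hx hy => rw [map_add, map_add, hx, hy]; rfl
    apply Subtype.ext
    by_cases hj : j ∈ s (DirectSum.coeAddMonoidHom 𝒩 y)
    · rw [DirectSum.mk_apply_of_mem hj]; exact key
    · rw [DirectSum.mk_apply_of_notMem hj, ← key, hs _ j hj]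
      rfl

end Dec

section Pr

variable {ι : Type v} [DecidableEq ι] {N : Type w} [AddCommGroup N] {τ : Type*} [SetLike τ N]
  [AddSubgroupClass τ N] (𝒩 : ι → τ) [Decomposition 𝒩]

/-- the projection onto the piece of degree i, as an additive endomorphism -/
def pr (i : ι) : N →+ N where
  toFun x := (decompose 𝒩 x i : N)
  map_zero' := by simp
  map_add' x y := by rw [decompose_add]; simp

theorem pr_apply (i : ι) (x : N) : pr 𝒩 i x = (decompose 𝒩 x i : N) := rfl

theorem pr_mem (i : ι) (x : N) : pr 𝒩 i x ∈ 𝒩 i := (decompose 𝒩 x i).2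

theorem pr_of_mem {i : ι} {x : N} (hx : x ∈ 𝒩 i) : pr 𝒩 i x = x :=
  decompose_of_mem_same 𝒩 hx

theorem pr_of_mem_ne {i j : ι} {x : N} (hx : x ∈ 𝒩 i) (hij : i ≠ j) : pr 𝒩 j x = 0 :=
  decompose_of_mem_ne 𝒩 hx hij

theorem pr_pr (i j : ι) (x : N) : pr 𝒩 i (pr 𝒩 j x) = if i = j then pr 𝒩 j x else 0 := by
  split_ifs with h
  · subst h; exact pr_of_mem 𝒩 (pr_mem 𝒩 _ _)
  · exact pr_of_mem_ne 𝒩 (pr_mem 𝒩 j x) (Ne.symm h)

open Classical in
/-- the support of an element -/
noncomputable def supp (x : N) : Finset ι := (decompose 𝒩 x).support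

theorem pr_eq_zero_of_notMem {x : N} {i : ι} (h : i ∉ supp 𝒩 x) : pr 𝒩 i x = 0 := by
  classical
  rw [supp, DFinsupp.notMem_support_iff] at h
  rw [pr_apply, h]; rfl

theorem sum_pr (x : N) : ∑ i ∈ supp 𝒩 x, pr 𝒩 i x = x := by
  classical
  exact sum_support_decompose 𝒩 x

theorem sum_pr_of_subset (x : N) (s : Finset ι) (hs : supp 𝒩 x ⊆ s) :
    ∑ i ∈ s, pr 𝒩 i x = x := by
  rw [← Finset.sum_subset hs, sum_pr]
  intro i _ hi
  exact pr_eq_zero_of_notMem 𝒩 hi

variable {𝒩}

theorem eq_zero_of_forall_pr {x : N} (h : ∀ i, pr 𝒩 i x = 0) : x = 0 := by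
  rw [← sum_pr 𝒩 x]; exact Finset.sum_eq_zero fun i _ => h i

theorem ext_pr {x y : N} (h : ∀ i, pr 𝒩 i x = pr 𝒩 i y) : x = y := by
  rw [← sub_eq_zero]
  exact eq_zero_of_forall_pr (𝒩 := 𝒩) fun i => by rw [map_sub, h i, sub_self]

theorem mem_iff_pr {i : ι} {x : N} : x ∈ 𝒩 i ↔ ∀ j, j ≠ i → pr 𝒩 j x = 0 := by
  constructor
  · intro hx j hj; exact pr_of_mem_ne 𝒩 hx (Ne.symm hj)
  · intro h
    have : x = pr 𝒩 i x := by
      apply ext_pr (𝒩 := 𝒩)
      intro j
      rw [pr_pr]
      split_ifs with h'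
      · rw [h']
      · exact h j h'
    rw [this]; exact pr_mem 𝒩 i x

variable (𝒩) in
theorem pr_eq_of_proj (π : ι → N →+ N) (hmem : ∀ i x, π i x ∈ 𝒩 i) (x : N) (s : Finset ι)
    (hs : ∀ i ∉ s, π i x = 0) (hsum : ∑ i ∈ s, π i x = x) (i : ι) : pr 𝒩 i x = π i x := by
  conv_lhs => rw [← hsum, map_sum]
  have h1 : ∀ j, pr 𝒩 i (π j x) = if i = j then π i x else 0 := by
    intro j
    split_ifs with h
    · subst h; exact pr_of_mem 𝒩 (hmem i x)
    · exact pr_of_mem_ne 𝒩 (hmem j x) (Ne.symm h)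
  rw [Finset.sum_congr rfl fun j _ => h1 j, Finset.sum_ite_eq]
  split_ifs with h
  · rfl
  · exact (hs i h).symm

end Pr

section Module

variable {ι : Type v} [DecidableEq ι] [AddCommGroup ι]
  {R : Type u} [CommRing R] {σ : Type*} [SetLike σ R] [AddSubgroupClass σ R] (𝒜 : ι → σ)
  {N : Type w} [AddCommGroup N] [Module R N] {τ : Type*} [SetLike τ N] [AddSubgroupClass τ N]
  (𝒩 : ι → τ) [Decomposition 𝒩] [SetLike.GradedSMul 𝒜 𝒩]

include 𝒜 in
theorem smul_mem' {i j : ι} {r : R} {x : N} (hr : r ∈ 𝒜 i) (hx : x ∈ 𝒩 j) : r • x ∈ 𝒩 (i + j) := by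
  have := SetLike.GradedSMul.smul_mem (A := 𝒜) (B := 𝒩) hr hx
  rwa [vadd_eq_add] at this

/-- components of a product with a homogeneous scalar -/
theorem pr_smul {i : ι} {r : R} (hr : r ∈ 𝒜 i) (j : ι) (x : N) :
    pr 𝒩 j (r • x) = r • pr 𝒩 (j - i) x := by
  conv_lhs => rw [← sum_pr 𝒩 x, Finset.smul_sum, map_sum]
  have h1 : ∀ l, pr 𝒩 j (r • pr 𝒩 l x) = if l = j - i then r • pr 𝒩 (j - i) x else 0 := by
    intro l
    split_ifs with h
    · subst h
      apply pr_of_mem
      have := smul_mem' 𝒜 𝒩 hr (pr_mem 𝒩 (j - i) x)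
      rwa [add_sub_cancel] at this
    · apply pr_of_mem_ne 𝒩 (smul_mem' 𝒜 𝒩 hr (pr_mem 𝒩 l x))
      intro h'
      exact h (by rw [← h']; abel)
  rw [Finset.sum_congr rfl fun l _ => h1 l, Finset.sum_ite_eq']
  split_ifs with h
  · rfl
  · rw [pr_eq_zero_of_notMem 𝒩 h, smul_zero]

variable [GradedRing 𝒜]

/-- components of a product with a homogeneous element of the module -/
theorem pr_smul_right {i : ι} {x : N} (hx : x ∈ 𝒩 i) (j : ι) (r : R) :
    pr 𝒩 j (r • x) = pr 𝒜 (j - i) r • x := by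
  conv_lhs => rw [← sum_pr 𝒜 r, Finset.sum_smul, map_sum]
  have h1 : ∀ l, pr 𝒩 j (pr 𝒜 l r • x) = if l = j - i then pr 𝒜 (j - i) r • x else 0 := by
    intro l
    split_ifs with h
    · subst h
      apply pr_of_mem
      have := smul_mem' 𝒜 𝒩 (pr_mem 𝒜 (j - i) r) hx
      rwa [sub_add_cancel] at this
    · apply pr_of_mem_ne 𝒩 (smul_mem' 𝒜 𝒩 (pr_mem 𝒜 l r) hx)
      intro h'
      exact h (by rw [← h']; abel)
  rw [Finset.sum_congr rfl fun l _ => h1 l, Finset.sum_ite_eq']
  split_ifs with h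
  · rfl
  · rw [pr_eq_zero_of_notMem 𝒜 h, zero_smul]

end Module

/-! ## The shifted grading of a finite free module -/

section Shift

variable {ι : Type v} [DecidableEq ι] [AddCommGroup ι]
  {R : Type u} [CommRing R] {σ : Type*} [SetLike σ R] [AddSubgroupClass σ R] (𝒜 : ι → σ)
  [GradedRing 𝒜] {n : Type} [Fintype n] (deg : n → ι)

/-- the grading of the free module in which the b-th basis vector has degree `deg b` -/
def shiftGr (e : ι) : AddSubgroup (n → R) where
  carrier := {v | ∀ a, v a ∈ 𝒜 (e - deg a)}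
  zero_mem' a := zero_mem _
  add_mem' hx hy a := add_mem (hx a) (hy a)
  neg_mem' hx a := neg_mem (hx a)

omit [Fintype n] [DecidableEq ι] [GradedRing 𝒜] in
theorem mem_shiftGr {e : ι} {v : n → R} : v ∈ shiftGr 𝒜 deg e ↔ ∀ a, v a ∈ 𝒜 (e - deg a) :=
  Iff.rfl

/-- the component of degree e -/
def shiftPr (e : ι) : (n → R) →+ (n → R) where
  toFun v a := pr 𝒜 (e - deg a) (v a)
  map_zero' := by ext a; simp
  map_add' x y := by ext a; simp

open Classical in
noncomputable instance shiftDec : Decomposition (shiftGr 𝒜 deg) :=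
  decOfProj (shiftGr 𝒜 deg) (shiftPr 𝒜 deg)
    (fun v => Finset.univ.biUnion fun a => (supp 𝒜 (v a)).image (· + deg a))
    (fun e v a => pr_mem 𝒜 _ _)
    (by
      intro v e he
      funext a
      change pr 𝒜 (e - deg a) (v a) = 0
      apply pr_eq_zero_of_notMem
      intro h
      apply he
      simp only [Finset.mem_biUnion, Finset.mem_univ, true_and, Finset.mem_image]
      exact ⟨a, e - deg a, h, by abel⟩)
    (by
      intro v
      funext a
      rw [Finset.sum_apply]
      change ∑ e ∈ _, pr 𝒜 (e - deg a) (v a) = v a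
      have h1 : ∑ e ∈ (supp 𝒜 (v a)).image (· + deg a), pr 𝒜 (e - deg a) (v a) = v a := by
        rw [Finset.sum_image (by intro x _ y _ h; exact add_right_cancel h)]
        simp only [add_sub_cancel_right]
        exact sum_pr 𝒜 (v a)
      rw [← Finset.sum_subset (Finset.subset_biUnion_of_mem
        (fun a => (supp 𝒜 (v a)).image (· + deg a)) (Finset.mem_univ a)), h1]
      intro e _ he
      apply pr_eq_zero_of_notMem
      intro h
      exact he (Finset.mem_image.2 ⟨_, h, by abel⟩))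
    (by
      intro e v hv
      funext a
      exact pr_of_mem 𝒜 (hv a))
    (by
      intro e e' hne v hv
      funext a
      refine pr_of_mem_ne 𝒜 (hv a) fun h => hne ?_
      have := congrArg (· + deg a) h
      simpa using this)

instance shiftGSMul : SetLike.GradedSMul 𝒜 (shiftGr 𝒜 deg) where
  smul_mem {i j r v} hr hv a := by
    have h1 : r • v a ∈ 𝒜 (i + (j - deg a)) := by
      rw [smul_eq_mul]
      exact SetLike.mul_mem_graded hr (hv a)
    rw [vadd_eq_add, Pi.smul_apply]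
    convert h1 using 2
    abel

theorem shiftPr_mem (e : ι) (v : n → R) : shiftPr 𝒜 deg e v ∈ shiftGr 𝒜 deg e :=
  fun a => pr_mem 𝒜 (e - deg a) (v a)

open Classical in
theorem shiftPr_support (v : n → R) : ∃ s : Finset ι, (∀ e ∉ s, shiftPr 𝒜 deg e v = 0) ∧
    ∑ e ∈ s, shiftPr 𝒜 deg e v = v := by
  refine ⟨Finset.univ.biUnion fun a => (supp 𝒜 (v a)).image (· + deg a), ?_, ?_⟩
  · intro e he
    funext a
    change pr 𝒜 (e - deg a) (v a) = 0
    apply pr_eq_zero_of_notMem
    intro h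
    apply he
    simp only [Finset.mem_biUnion, Finset.mem_univ, true_and, Finset.mem_image]
    exact ⟨a, e - deg a, h, by abel⟩
  · funext a
    rw [Finset.sum_apply]
    change ∑ e ∈ _, pr 𝒜 (e - deg a) (v a) = v a
    have h1 : ∑ e ∈ (supp 𝒜 (v a)).image (· + deg a), pr 𝒜 (e - deg a) (v a) = v a := by
      rw [Finset.sum_image (by intro x _ y _ h; exact add_right_cancel h)]
      simp only [add_sub_cancel_right]
      exact sum_pr 𝒜 (v a)
    rw [← Finset.sum_subset (Finset.subset_biUnion_of_mem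
      (fun a => (supp 𝒜 (v a)).image (· + deg a)) (Finset.mem_univ a)), h1]
    intro e _ he
    apply pr_eq_zero_of_notMem
    intro h
    exact he (Finset.mem_image.2 ⟨_, h, by abel⟩)

theorem pr_shiftGr (e : ι) (v : n → R) (a : n) :
    pr (shiftGr 𝒜 deg) e v a = pr 𝒜 (e - deg a) (v a) := by
  obtain ⟨s, h1, h2⟩ := shiftPr_support 𝒜 deg v
  exact congrFun (pr_eq_of_proj (shiftGr 𝒜 deg) (shiftPr 𝒜 deg) (shiftPr_mem 𝒜 deg)
    v s h1 h2 e) a

end Shift

end K859.Gr
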