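import Mathlib.RingTheory.Polynomial.Pochhammer
import Mathlib.Algebra.Polynomial.Eval.Defs
import Mathlib.Tactic.FieldSimp

/-!
# The binomial coefficient as a polynomial
-/

set_option autoImplicit false

namespace K859.HilbPoly

open Polynomial

/-- the polynomial `C(r + X, r)` -/
noncomputable def Q (r : ℕ) : ℚ[X] := C ((r.factorial : ℚ)⁻¹) * (ascPochhammer ℚ r).comp (X + 1)

theorem Q_eval (r : ℕ) (n : ℤ) (hn : -(r : ℤ) ≤ n) :
    (Q r).eval (n : ℚ) = ((if 0 ≤ n then ((Nat.choose (r + n.toNat) r : ℕ) : ℤ) else 0 : ℤ) : ℚ) := by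
  rw [Q, eval_mul, eval_C, eval_comp, eval_add, eval_X, eval_one]
  split_ifs with h
  · obtain ⟨n, rfl⟩ := Int.eq_ofNat_of_zero_le h
    have h1 : (((n : ℤ) : ℚ) + 1) = ((n + 1 : ℕ) : ℚ) := by push_cast; ring
    rw [h1, ← ascPochhammer_eval_cast, ascPochhammer_nat_eq_ascFactorial,
      Nat.ascFactorial_eq_factorial_mul_choose]
    push_cast
    rw [← mul_assoc, inv_mul_cancel₀ (by exact_mod_cast Nat.factorial_ne_zero r), one_mul,
      add_comm n r]
    simp
  · obtain ⟨l, hl⟩ : ∃ l : ℕ, n + 1 = -(l : ℤ) := ⟨(-(n+1)).toNat, by omega⟩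
    have h1 : ((n : ℚ) + 1) = -(l : ℚ) := by
      have := congrArg (fun z : ℤ => (z : ℚ)) hl
      push_cast at this
      exact this
    rw [h1, ascPochhammer_eval_neg_coe_nat_of_lt (by omega), mul_zero]
    simp

end K859.HilbPoly
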