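import Groth.Agent.GrSyz.K859.MinBasic

/-!
# Minimality and irredundant generators
-/

set_option autoImplicit false
universe u v

namespace K859.Irred

open MvPolynomial GrSyz K859.Std K859.MinBasic

section lin

variable {R : Type u} [CommRing R] {N : Type v} [AddCommGroup N] [Module R N] {n : ℕ}

/-- a member of a finite family is a combination of the others iff there is a relation whose
coefficient there is one -/
theorem mem_span_others_iff (x : Fin n → N) (b : Fin n) :
    x b ∈ Submodule.span R (x '' {b' | b' ≠ b}) ↔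
      ∃ v : Fin n → R, v b = 1 ∧ Fintype.linearCombination R x v = 0 := by
  classical
  rw [Submodule.mem_span_image_iff_exists_fun]
  constructor
  · rintro ⟨t, ht, c, hc⟩
    refine ⟨fun j => if j = b then 1 else if h : j ∈ t then - c ⟨j, h⟩ else 0, by simp, ?_⟩
    have hb : b ∉ t := fun h => (ht h) rfl
    rw [Fintype.linearCombination_apply, ← Finset.add_sum_erase _ _ (Finset.mem_univ b)]
    simp only [if_true, one_smul]
    rw [← hc]
    rw [← Finset.sum_subset (s₁ := t) (s₂ := Finset.univ.erase b)]
    · rw [← Finset.sum_coe_sort t]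
      rw [← Finset.sum_add_distrib]
      refine Finset.sum_eq_zero fun j _ => ?_
      have hj : (j : Fin n) ≠ b := fun h => hb (h ▸ j.2)
      simp [hj]
    · intro j hj
      exact Finset.mem_erase.2 ⟨fun h => hb (h ▸ hj), Finset.mem_univ _⟩
    · intro j hj hj'
      have := Finset.ne_of_mem_erase hj
      simp [this, hj']
  · rintro ⟨v, hv, hx⟩
    refine ⟨Finset.univ.erase b, by intro j hj; exact Finset.ne_of_mem_erase hj, fun j => - v j, ?_⟩
    rw [Fintype.linearCombination_apply, ← Finset.add_sum_erase _ _ (Finset.mem_univ b), hv,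
      one_smul] at hx
    rw [Finset.sum_coe_sort (Finset.univ.erase b) (fun j => (- v j) • x j)]
    simp only [neg_smul, Finset.sum_neg_distrib]
    exact (eq_neg_of_add_eq_zero_left hx).symm

theorem mem_span_others_of_isUnit (x : Fin n → N) (b : Fin n) (v : Fin n → R) (hb : IsUnit (v b))
    (hv : Fintype.linearCombination R x v = 0) :
    x b ∈ Submodule.span R (x '' {b' | b' ≠ b}) := by
  obtain ⟨u, hu⟩ := hb
  refine (mem_span_others_iff x b).2 ⟨(↑u⁻¹ : R) • v, ?_, ?_⟩
  · rw [Pi.smul_apply, ← hu, smul_eq_mul, Units.inv_mul]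
  · rw [map_smul, hv, smul_zero]

theorem linearCombination_cols {m : ℕ} (A : Matrix (Fin m) (Fin n) R) (v : Fin n → R) :
    Fintype.linearCombination R (fun b' a => A a b') v = A.mulVecLin v := by
  ext a
  rw [Fintype.linearCombination_apply, Finset.sum_apply, Matrix.mulVecLin_apply, Matrix.mulVec,
    dotProduct]
  refine Finset.sum_congr rfl fun j _ => ?_
  rw [Pi.smul_apply, smul_eq_mul, mul_comm]

end lin

variable {k : Type u} [Field k] {σ : Type}
  {M : Type u} [AddCommGroup M] [Module (MvPolynomial σ k) M]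
  {τ : Type u} [SetLike τ M] [AddSubgroupClass τ M]
  {ℳ : ℤ → τ} [DirectSum.Decomposition ℳ] [SetLike.GradedSMul (stdGr k σ) ℳ]

theorem isMinimal_iff (F : FreeRes (stdGr k σ) ℳ) :
    F.IsMinimal (irrel (stdGr k σ)).toIdeal ↔
      ((∀ b : Fin (F.rk 0), F.aug b ∉ Submodule.span (MvPolynomial σ k) (F.aug '' {b' | b' ≠ b})) ∧
        ∀ (i : ℕ) (b : Fin (F.rk (i + 1))),
          (fun a => F.d i a b) ∉ Submodule.span (MvPolynomial σ k)
            ((fun b' a => F.d i a b') '' {b' | b' ≠ b})) := by
  constructor
  · intro hF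
    refine ⟨fun b hb => ?_, fun i b hb => ?_⟩
    · obtain ⟨v, h1, h2⟩ := (mem_span_others_iff _ _).1 hb
      refine one_notMem_irrel (k := k) (σ := σ) ?_
      rw [← h1]
      exact mem_of_mem_ker_aug F hF v h2 b
    · obtain ⟨v, h1, h2⟩ := (mem_span_others_iff (fun b' a => F.d i a b') b).1 hb
      refine one_notMem_irrel (k := k) (σ := σ) ?_
      rw [← h1]
      exact mem_of_mem_ker F hF i v (by rw [LinearMap.mem_ker, ← linearCombination_cols, h2]) b
  · rintro ⟨h0, h1⟩ i a b
    by_contra hab
    have hu := (isUnit_of_notMem_irrel (F.d_mem i a b) hab).2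
    have hv : (fun a => F.d i a b) = F.dLin i (Pi.single b 1) := by
      ext a
      rw [Matrix.mulVecLin_apply, Matrix.mulVec_single_one]
      rfl
    cases i with
    | zero =>
      refine h0 a (mem_span_others_of_isUnit F.aug a (fun a => F.d 0 a b) hu ?_)
      have : (fun a => F.d 0 a b) ∈ LinearMap.ker F.augLin := by
        rw [F.exact_zero, hv]; exact ⟨_, rfl⟩
      exact this
    | succ i =>
      refine h1 i a (mem_span_others_of_isUnit (fun b' a => F.d i a b') a
        (fun a => F.d (i + 1) a b) hu ?_)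
      have : (fun a => F.d (i + 1) a b) ∈ LinearMap.ker (F.dLin i) := by
        rw [F.exact_succ, hv]; exact ⟨_, rfl⟩
      rw [linearCombination_cols]
      exact this

end K859.Irred
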