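import Groth.Agent.GrSyz.K859.Gr
import Groth.Agent.GrSyz.K859.Irred
import Mathlib.RingTheory.Polynomial.Basic
import Mathlib.RingTheory.Noetherian.Basic
import Mathlib.RingTheory.PrincipalIdealDomain

/-!
# Minimal homogeneous generators and the existence of minimal graded free resolutions
-/

set_option autoImplicit false
universe u v w

namespace K859.MinGen

open DirectSum K859.Gr K859.Std K859.Irred MvPolynomial GrSyz

section Gen

variable {ι : Type v} [DecidableEq ι]
  {R : Type u} [CommRing R]
  {N : Type w} [AddCommGroup N] [Module R N] {τ : Type*} [SetLike τ N] [AddSubgroupClass τ N]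
  (𝒩 : ι → τ) [Decomposition 𝒩]

/-- a finitely generated homogeneous submodule has finitely many homogeneous generators -/
theorem exists_homogeneous_generators (K : Submodule R N) (hK : K.FG)
    (hh : ∀ x ∈ K, ∀ i, pr 𝒩 i x ∈ K) :
    ∃ (m : ℕ) (x : Fin m → N) (e : Fin m → ι), (∀ b, x b ∈ 𝒩 (e b)) ∧
      Submodule.span R (Set.range x) = K := by
  classical
  obtain ⟨s, hs⟩ := hK
  let t : Finset (ι × N) := s.biUnion fun x => (supp 𝒩 x).image fun i => (i, pr 𝒩 i x)
  have ht : ∀ p ∈ t, p.2 ∈ 𝒩 p.1 ∧ p.2 ∈ K := by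
    intro p hp
    simp only [t, Finset.mem_biUnion, Finset.mem_image] at hp
    obtain ⟨x, hx, i, hi, rfl⟩ := hp
    exact ⟨pr_mem 𝒩 i x, hh x (by rw [← hs]; exact Submodule.subset_span hx) i⟩
  refine ⟨t.card, fun b => (t.equivFin.symm b).1.2, fun b => (t.equivFin.symm b).1.1,
    fun b => (ht _ (t.equivFin.symm b).2).1, le_antisymm ?_ ?_⟩
  · rw [Submodule.span_le]
    rintro _ ⟨b, rfl⟩
    exact (ht _ (t.equivFin.symm b).2).2
  · conv_lhs => rw [← hs]
    rw [Submodule.span_le]
    intro x hx
    rw [SetLike.mem_coe, ← sum_pr 𝒩 x]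
    refine Submodule.sum_mem _ fun i hi => Submodule.subset_span ?_
    have hp : (i, pr 𝒩 i x) ∈ t := by
      simp only [t, Finset.mem_biUnion, Finset.mem_image]
      exact ⟨x, hx, i, hi, rfl⟩
    exact ⟨t.equivFin ⟨_, hp⟩, by simp⟩

/-- a finitely generated homogeneous submodule has an irredundant finite family of homogeneous
generators -/
theorem exists_irredundant_generators (K : Submodule R N) (hK : K.FG)
    (hh : ∀ x ∈ K, ∀ i, pr 𝒩 i x ∈ K) :
    ∃ (m : ℕ) (x : Fin m → N) (e : Fin m → ι), (∀ b, x b ∈ 𝒩 (e b)) ∧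
      Submodule.span R (Set.range x) = K ∧
      ∀ b, x b ∉ Submodule.span R (x '' {b' | b' ≠ b}) := by
  classical
  have h := exists_homogeneous_generators 𝒩 K hK hh
  obtain ⟨x, e, h1, h2⟩ := Nat.find_spec h
  refine ⟨Nat.find h, x, e, h1, h2, fun b hb => ?_⟩
  obtain ⟨m, hm⟩ : ∃ m, Nat.find h = m + 1 := by
    obtain ⟨m, hm⟩ := Nat.exists_eq_succ_of_ne_zero (n := Nat.find h) (by
      intro h0
      exact Fin.elim0 (Fin.cast h0 b))
    exact ⟨m, hm⟩
  have key : ∃ (x : Fin m → N) (e : Fin m → ι), (∀ b, x b ∈ 𝒩 (e b)) ∧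
      Submodule.span R (Set.range x) = K := by
    refine ⟨fun j => x (Fin.cast hm.symm ((Fin.cast hm b).succAbove j)),
      fun j => e (Fin.cast hm.symm ((Fin.cast hm b).succAbove j)), fun j => h1 _, ?_⟩
    have hr : Set.range (fun j => x (Fin.cast hm.symm ((Fin.cast hm b).succAbove j)))
        = x '' {b' | b' ≠ b} := by
      ext y
      constructor
      · rintro ⟨j, rfl⟩
        refine ⟨_, ?_, rfl⟩
        intro h'
        have := congrArg (Fin.cast hm) h'
        simp only [Fin.cast_cast, Fin.cast_eq_self] at this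
        exact Fin.succAbove_ne _ _ this
      · rintro ⟨b', hb', rfl⟩
        have : Fin.cast hm b' ≠ Fin.cast hm b := fun h' => hb' (Fin.cast_injective hm h')
        obtain ⟨j, hj⟩ := Fin.exists_succAbove_eq this
        exact ⟨j, by simp [hj]⟩
    rw [hr]
    refine Eq.trans ?_ h2
    apply le_antisymm
    · exact Submodule.span_mono (Set.image_subset_range _ _)
    · rw [Submodule.span_le]
      rintro _ ⟨b', rfl⟩
      by_cases hbb : b' = b
      · subst hbb; exact hb
      · exact Submodule.subset_span ⟨b', hbb, rfl⟩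
  have := Nat.find_min' h key
  omega

end Gen

section Poly

variable {k : Type u} [Field k] {σ : Type}
  {N : Type w} [AddCommGroup N] [Module (MvPolynomial σ k) N]
  {τ : Type*} [SetLike τ N] [AddSubgroupClass τ N]
  (𝒩 : ℤ → τ) [Decomposition 𝒩] [SetLike.GradedSMul (stdGr k σ) 𝒩]

theorem constantCoeff_pr_zero (p : MvPolynomial σ k) :
    constantCoeff (pr (stdGr k σ) 0 p) = constantCoeff p := by
  conv_rhs => rw [← sum_pr (stdGr k σ) p, map_sum]
  by_cases h : (0 : ℤ) ∈ supp (stdGr k σ) p
  · rw [Finset.sum_eq_single_of_mem 0 h]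
    intro i _ hi
    exact constantCoeff_eq_zero_of_mem_stdGr hi (pr_mem _ i p)
  · rw [pr_eq_zero_of_notMem _ h, map_zero, Finset.sum_eq_zero]
    intro i hi
    exact constantCoeff_eq_zero_of_mem_stdGr (fun h' => h (h' ▸ hi)) (pr_mem _ i p)

/-- the relations between irredundant homogeneous elements have coefficients in the irrelevant
ideal -/
theorem mem_irrel_of_relation {m : ℕ} (x : Fin m → N) (e : Fin m → ℤ) (hx : ∀ b, x b ∈ 𝒩 (e b))
    (hirr : ∀ b, x b ∉ Submodule.span (MvPolynomial σ k) (x '' {b' | b' ≠ b}))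
    (v : Fin m → MvPolynomial σ k) (hv : Fintype.linearCombination (MvPolynomial σ k) x v = 0)
    (b : Fin m) : v b ∈ (irrel (stdGr k σ)).toIdeal := by
  by_contra hb
  refine hirr b (mem_span_others_of_isUnit x b (fun a => pr (stdGr k σ) (e b - e a) (v a)) ?_ ?_)
  · simp only [sub_self]
    rw [exists_eq_C_of_mem_stdGr_zero (pr_mem (stdGr k σ) 0 (v b)), constantCoeff_pr_zero]
    exact (IsUnit.mk0 _ fun h => hb (mem_irrel_iff.2 h)).map C
  · have := congrArg (pr 𝒩 (e b)) hv
    rw [map_zero, Fintype.linearCombination_apply, map_sum] at this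
    rw [Fintype.linearCombination_apply, ← this]
    refine Finset.sum_congr rfl fun a _ => ?_
    rw [pr_smul_right (stdGr k σ) 𝒩 (hx a)]

end Poly

section Build

variable {k : Type u} [Field k] {σ : Type}

/-- a stage in the construction of a minimal resolution: a homogeneous submodule of a finite free
module with shifted grading, contained in 𝔪 times it -/
structure St (k : Type u) [Field k] (σ : Type) where
  n : ℕ
  deg : Fin n → ℤ
  K : Submodule (MvPolynomial σ k) (Fin n → MvPolynomial σ k)
  hom : ∀ v ∈ K, ∀ i, pr (shiftGr (stdGr k σ) deg) i v ∈ K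
  min : ∀ v ∈ K, ∀ b, v b ∈ (irrel (stdGr k σ)).toIdeal

/-- the kernel of a degree preserving map between finite free modules is homogeneous -/
theorem ker_homogeneous {R : Type u} [CommRing R] {σ' : Type*} [SetLike σ' R]
    [AddSubgroupClass σ' R] (𝒜 : ℤ → σ') [GradedRing 𝒜]
    {N : Type w} [AddCommGroup N] [Module R N]
    {τ : Type*} [SetLike τ N] [AddSubgroupClass τ N]
    (𝒩 : ℤ → τ) [Decomposition 𝒩] [SetLike.GradedSMul 𝒜 𝒩]
    {m : ℕ} (x : Fin m → N) (e : Fin m → ℤ) (hx : ∀ b, x b ∈ 𝒩 (e b))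
    (v : Fin m → R) (hv : v ∈ LinearMap.ker (Fintype.linearCombination R x)) (i : ℤ) :
    pr (shiftGr 𝒜 e) i v ∈ LinearMap.ker (Fintype.linearCombination R x) := by
  rw [LinearMap.mem_ker] at hv ⊢
  have := congrArg (pr 𝒩 i) hv
  rw [map_zero, Fintype.linearCombination_apply, map_sum] at this
  rw [Fintype.linearCombination_apply, ← this]
  refine Finset.sum_congr rfl fun a _ => ?_
  rw [pr_smul_right 𝒜 𝒩 (hx a), pr_shiftGr]

variable [Finite σ]

theorem exists_next (s : St k σ) : ∃ (t : St k σ)
    (A : Matrix (Fin s.n) (Fin t.n) (MvPolynomial σ k)),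
    (∀ a b, A a b ∈ stdGr k σ (t.deg b - s.deg a)) ∧ LinearMap.range A.mulVecLin = s.K ∧
    LinearMap.ker A.mulVecLin = t.K := by
  obtain ⟨m, x, e, h1, h2, h3⟩ := exists_irredundant_generators (shiftGr (stdGr k σ) s.deg) s.K
    (IsNoetherian.noetherian _) s.hom
  let A : Matrix (Fin s.n) (Fin m) (MvPolynomial σ k) := fun a b => x b a
  have hA : A.mulVecLin = Fintype.linearCombination (MvPolynomial σ k) x := by
    refine LinearMap.ext fun v => ?_
    rw [← linearCombination_cols]
  refine ⟨⟨m, e, LinearMap.ker (Fintype.linearCombination (MvPolynomial σ k) x),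
    fun v hv i => ker_homogeneous (stdGr k σ) (shiftGr (stdGr k σ) s.deg) x e h1 v hv i,
    fun v hv b => mem_irrel_of_relation (shiftGr (stdGr k σ) s.deg) x e h1 h3 v hv b⟩, A,
    fun a b => h1 b a, ?_, ?_⟩
  · rw [hA, Fintype.range_linearCombination, h2]
  · rw [hA]

/-- the next stage -/
noncomputable def next (s : St k σ) : St k σ := (exists_next s).choose

/-- the matrix of the differential -/
noncomputable def mat (s : St k σ) : Matrix (Fin s.n) (Fin (next s).n) (MvPolynomial σ k) :=
  (exists_next s).choose_spec.choose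

theorem mat_spec (s : St k σ) :
    (∀ a b, mat s a b ∈ stdGr k σ ((next s).deg b - s.deg a)) ∧
    LinearMap.range (mat s).mulVecLin = s.K ∧
    LinearMap.ker (mat s).mulVecLin = (next s).K :=
  (exists_next s).choose_spec.choose_spec

/-- the stages of the construction -/
noncomputable def stages (s₀ : St k σ) : ℕ → St k σ
  | 0 => s₀
  | n + 1 => next (stages s₀ n)

variable {M : Type u} [AddCommGroup M] [Module (MvPolynomial σ k) M]
  [Module.Finite (MvPolynomial σ k) M]
  {τ : Type u} [SetLike τ M] [AddSubgroupClass τ M]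
  (ℳ : ℤ → τ) [Decomposition ℳ] [SetLike.GradedSMul (stdGr k σ) ℳ]

/-- every finitely generated graded module over a polynomial ring over a field has a minimal
graded free resolution -/
theorem exists_freeRes_isMinimal :
    ∃ F : FreeRes (stdGr k σ) ℳ, F.IsMinimal (irrel (stdGr k σ)).toIdeal := by
  obtain ⟨m, x, e, h1, h2, h3⟩ := exists_irredundant_generators ℳ
    (⊤ : Submodule (MvPolynomial σ k) M) (Module.Finite.fg_top) (fun _ _ _ => trivial)
  let s₀ : St k σ := ⟨m, e, LinearMap.ker (Fintype.linearCombination (MvPolynomial σ k) x),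
    fun v hv i => ker_homogeneous (stdGr k σ) ℳ x e h1 v hv i,
    fun v hv b => mem_irrel_of_relation ℳ x e h1 h3 v hv b⟩
  refine ⟨{
    rk := fun i => (stages s₀ i).n
    deg := fun i => (stages s₀ i).deg
    d := fun i => mat (stages s₀ i)
    aug := x
    d_mem := fun i a b => (mat_spec (stages s₀ i)).1 a b
    aug_mem := h1
    aug_surjective := ?_
    exact_zero := ?_
    exact_succ := ?_ }, ?_⟩
  · exact LinearMap.range_eq_top.1 ((Fintype.range_linearCombination _ _).trans h2)
  · exact (mat_spec s₀).2.1.symm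
  · intro i
    exact (mat_spec (stages s₀ i)).2.2.trans (mat_spec (stages s₀ (i + 1))).2.1.symm
  · intro i a b
    refine (stages s₀ i).min (fun a => mat (stages s₀ i) a b) ?_ a
    rw [← (mat_spec (stages s₀ i)).2.1]
    refine ⟨Pi.single b 1, ?_⟩
    rw [Matrix.mulVecLin_apply, Matrix.mulVec_single_one]
    rfl

end Build

end K859.MinGen
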