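import Groth.Prelude.Def_GrSyz

/-!
# Basic facts on the standard grading of a polynomial ring indexed by the integers
-/

set_option autoImplicit false
universe u v

namespace K859.Std

open MvPolynomial GrSyz

variable {k : Type u} [CommRing k] {σ : Type v}

/-- the weight of an exponent for the constant weight one is its total degree -/
theorem weight_one_eq (d : σ →₀ ℕ) :
    Finsupp.weight (fun _ : σ => (1 : ℤ)) d = ((d.sum fun _ e => e : ℕ) : ℤ) := by
  rw [Finsupp.weight_apply]
  simp [Finsupp.sum]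

theorem weight_one_nonneg (d : σ →₀ ℕ) : 0 ≤ Finsupp.weight (fun _ : σ => (1 : ℤ)) d := by
  rw [weight_one_eq]; positivity

theorem weight_one_eq_zero_iff (d : σ →₀ ℕ) :
    Finsupp.weight (fun _ : σ => (1 : ℤ)) d = 0 ↔ d = 0 := by
  rw [weight_one_eq]
  constructor
  · intro h
    have h' : (d.sum fun _ e => e) = 0 := by exact_mod_cast h
    rw [Finsupp.sum, Finset.sum_eq_zero_iff] at h'
    ext i
    by_cases hi : i ∈ d.support
    · exact h' i hi
    · simpa using hi
  · rintro rfl; simp

theorem eq_zero_of_mem_stdGr_neg {n : ℤ} (hn : n < 0) {p : MvPolynomial σ k}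
    (hp : p ∈ stdGr k σ n) : p = 0 := by
  ext d
  by_contra h
  have h1 := (mem_stdGr_iff k σ n p).1 hp (d := d) (by simpa using h)
  have h2 := weight_one_nonneg d
  omega

theorem exists_eq_C_of_mem_stdGr_zero {p : MvPolynomial σ k}
    (hp : p ∈ stdGr k σ 0) : p = C (constantCoeff p) := by
  classical
  ext d
  rw [coeff_C]
  split_ifs with h
  · subst h; rfl
  · by_contra h0
    exact h ((weight_one_eq_zero_iff d).1 ((mem_stdGr_iff k σ 0 p).1 hp (d := d) h0)).symm

theorem C_mem_stdGr_zero (c : k) : (C c : MvPolynomial σ k) ∈ stdGr k σ 0 :=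
  (mem_stdGr_iff k σ 0 _).2 (isWeightedHomogeneous_C _ c)

theorem X_mem_stdGr_one (i : σ) : (X i : MvPolynomial σ k) ∈ stdGr k σ 1 :=
  (mem_stdGr_iff k σ 1 _).2 (isWeightedHomogeneous_X k (fun _ : σ => (1 : ℤ)) i)

theorem constantCoeff_eq_zero_of_mem_stdGr {n : ℤ} (hn : n ≠ 0) {p : MvPolynomial σ k}
    (hp : p ∈ stdGr k σ n) : constantCoeff p = 0 := by
  by_contra h
  have h1 := (mem_stdGr_iff k σ n p).1 hp (d := 0) h
  exact hn (by rw [← h1]; simp)

theorem X_mem_irrel (i : σ) : (X i : MvPolynomial σ k) ∈ (irrel (stdGr k σ)).toIdeal :=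
  Ideal.subset_span ⟨1, one_pos, X_mem_stdGr_one i⟩

/-- the irrelevant ideal is the kernel of the constant coefficient -/
theorem mem_irrel_iff {p : MvPolynomial σ k} :
    p ∈ (irrel (stdGr k σ)).toIdeal ↔ constantCoeff p = 0 := by
  constructor
  · intro hp
    have : (irrel (stdGr k σ)).toIdeal ≤ RingHom.ker (constantCoeff : MvPolynomial σ k →+* k) := by
      refine Ideal.span_le.2 ?_
      rintro q ⟨n, hn, hq⟩
      exact constantCoeff_eq_zero_of_mem_stdGr (by omega) hq
    exact this hp
  · intro hp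
    rw [p.as_sum]
    refine Ideal.sum_mem _ fun d hd => ?_
    have hd0 : d ≠ 0 := by
      rintro rfl
      exact (mem_support_iff.1 hd) hp
    obtain ⟨i, hi⟩ : ∃ i, d i ≠ 0 := by
      by_contra h
      push Not at h
      exact hd0 (Finsupp.ext h)
    have : (monomial d (coeff d p) : MvPolynomial σ k)
        = monomial (d - Finsupp.single i 1) (coeff d p) * X i := by
      rw [X, monomial_mul, mul_one]
      congr 1
      rw [tsub_add_cancel_of_le]
      exact Finsupp.single_le_iff.2 (Nat.one_le_iff_ne_zero.2 hi)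
    rw [this]
    exact Ideal.mul_mem_left _ _ (X_mem_irrel i)

theorem irrel_eq_span_X :
    (irrel (stdGr k σ)).toIdeal = Ideal.span (Set.range (X : σ → MvPolynomial σ k)) := by
  apply le_antisymm
  · intro p hp
    rw [mem_irrel_iff] at hp
    rw [p.as_sum]
    refine Ideal.sum_mem _ fun d hd => ?_
    have hd0 : d ≠ 0 := by
      rintro rfl
      exact (mem_support_iff.1 hd) hp
    obtain ⟨i, hi⟩ : ∃ i, d i ≠ 0 := by
      by_contra h
      push Not at h
      exact hd0 (Finsupp.ext h)
    have : (monomial d (coeff d p) : MvPolynomial σ k)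
        = monomial (d - Finsupp.single i 1) (coeff d p) * X i := by
      rw [X, monomial_mul, mul_one]
      congr 1
      rw [tsub_add_cancel_of_le]
      exact Finsupp.single_le_iff.2 (Nat.one_le_iff_ne_zero.2 hi)
    rw [this]
    exact Ideal.mul_mem_left _ _ (Ideal.subset_span ⟨i, rfl⟩)
  · rw [Ideal.span_le]
    rintro _ ⟨i, rfl⟩
    exact X_mem_irrel i

theorem one_notMem_irrel [Nontrivial k] : (1 : MvPolynomial σ k) ∉ (irrel (stdGr k σ)).toIdeal := by
  rw [mem_irrel_iff]; simp

theorem irrel_ne_top [Nontrivial k] : (irrel (stdGr k σ)).toIdeal ≠ ⊤ := fun h =>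
  one_notMem_irrel (k := k) (σ := σ) (by rw [h]; trivial)

/-- a homogeneous element of the irrelevant ideal of degree at most zero vanishes -/
theorem eq_zero_of_mem_irrel_of_nonpos {n : ℤ} (hn : n ≤ 0) {p : MvPolynomial σ k}
    (hp : p ∈ stdGr k σ n) (hp' : p ∈ (irrel (stdGr k σ)).toIdeal) : p = 0 := by
  rcases hn.lt_or_eq with h | rfl
  · exact eq_zero_of_mem_stdGr_neg h hp
  · rw [exists_eq_C_of_mem_stdGr_zero hp, mem_irrel_iff.1 hp', map_zero]

end K859.Std

namespace K859.Std

open MvPolynomial GrSyz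

variable {k : Type u} [Field k] {σ : Type v}

/-- a homogeneous element outside the irrelevant ideal is a nonzero constant -/
theorem isUnit_of_notMem_irrel {n : ℤ} {p : MvPolynomial σ k}
    (hp : p ∈ stdGr k σ n) (hp' : p ∉ (irrel (stdGr k σ)).toIdeal) :
    n = 0 ∧ IsUnit p := by
  have hn : n = 0 := by
    by_contra h
    exact hp' (mem_irrel_iff.2 (constantCoeff_eq_zero_of_mem_stdGr h hp))
  subst hn
  refine ⟨rfl, ?_⟩
  rw [exists_eq_C_of_mem_stdGr_zero hp]
  refine (IsUnit.mk0 _ fun h => hp' (mem_irrel_iff.2 h)).map C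

instance irrel_isMaximal : (irrel (stdGr k σ)).toIdeal.IsMaximal := by
  have : (irrel (stdGr k σ)).toIdeal = RingHom.ker (constantCoeff : MvPolynomial σ k →+* k) := by
    ext p; rw [mem_irrel_iff, RingHom.mem_ker]
  rw [this]
  exact RingHom.ker_isMaximal_of_surjective _ (fun c => ⟨C c, by simp⟩)

end K859.Std
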