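import Groth.Agent.GrLC.K859.DReg
import Groth.Agent.GrSyz.K859.Std
import Groth.Agent.GrSyz.K859.Gr
import Mathlib.RingTheory.MvPolynomial.Ideal
import Mathlib.RingTheory.Polynomial.Basic
import Mathlib.RingTheory.PrincipalIdealDomain

/-!
# The polynomial ring is 0-regular in the sense of graded local cohomology
-/

set_option autoImplicit false
set_option linter.unusedSectionVars false
universe u

open GrLC GrSyz DirectSum K759.Gr K759.GrObj K859.Van K859.DReg K859.Std MvPolynomial

namespace K859.PolyReg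

variable {k : Type u} [Field k] {m : ℕ}

/-- the ideal generated by the first `j` variables -/
noncomputable def I (k : Type u) [Field k] (m j : ℕ) :
    Submodule (MvPolynomial (Fin m) k) (MvPolynomial (Fin m) k) :=
  Ideal.span (X '' {i : Fin m | i.val < j})

theorem mem_I {j : ℕ} {p : MvPolynomial (Fin m) k} :
    p ∈ I k m j ↔ ∀ d ∈ p.support, ∃ i : Fin m, i.val < j ∧ d i ≠ 0 :=
  mem_ideal_span_X_image

theorem I_hom (j : ℕ) : (I k m j).IsHomogeneous (stdGr k (Fin m)) := by
  refine isHomogeneous_span (stdGr k (Fin m)) (stdGr k (Fin m)) _ ?_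
  rintro _ ⟨i, -, rfl⟩
  exact ⟨1, X_mem_stdGr_one i⟩

theorem I_le_succ (j : ℕ) : I k m j ≤ I k m (j + 1) := by
  refine Ideal.span_mono (Set.image_mono ?_)
  intro i hi
  exact Nat.lt_succ_of_lt hi

theorem I_zero : I k m 0 = ⊥ := by
  have : (X '' {i : Fin m | i.val < 0} : Set (MvPolynomial (Fin m) k)) = ∅ := by simp
  rw [I, this]; exact Submodule.span_empty

theorem I_top : I k m m = (irrel (stdGr k (Fin m))).toIdeal := by
  rw [irrel_eq_span_X, I]
  congr 1
  ext p
  simp

theorem regular {j : ℕ} (hj : j < m) {p : MvPolynomial (Fin m) k}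
    (h : X ⟨j, hj⟩ * p ∈ I k m j) : p ∈ I k m j := by
  rw [mem_I] at h ⊢
  intro d hd
  have h1 : Finsupp.single (⟨j, hj⟩ : Fin m) 1 + d ∈ (X (⟨j, hj⟩ : Fin m) * p).support := by
    rw [mem_support_iff, coeff_X_mul]
    exact mem_support_iff.1 hd
  obtain ⟨i, hi, hi'⟩ := h _ h1
  refine ⟨i, hi, ?_⟩
  have : (⟨j, hj⟩ : Fin m) ≠ i := by
    rintro rfl; exact lt_irrefl _ hi
  rwa [Finsupp.add_apply, Finsupp.single_eq_of_ne this.symm, zero_add] at hi'

theorem I_succ {j : ℕ} (hj : j < m) :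
    I k m (j + 1) = I k m j ⊔ Ideal.span {(X (⟨j, hj⟩ : Fin m) : MvPolynomial (Fin m) k)} := by
  rw [I, I, ← Ideal.span_union]
  congr 1
  ext p
  constructor
  · rintro ⟨i, hi, rfl⟩
    rcases Nat.lt_succ_iff_lt_or_eq.1 hi with h | h
    · exact Or.inl ⟨i, h, rfl⟩
    · right
      rw [Set.mem_singleton_iff]
      congr 1
      exact Fin.ext h
  · rintro (⟨i, hi, rfl⟩ | h)
    · exact ⟨i, Nat.lt_succ_of_lt hi, rfl⟩
    · exact ⟨⟨j, hj⟩, Nat.lt_succ_self j, (Set.mem_singleton_iff.1 h).symm⟩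

theorem dreg_quot : ∀ t j : ℕ, j + t = m →
    letI := quoDec (stdGr k (Fin m)) (I k m j) (I_hom j)
    DReg (irrel (stdGr k (Fin m))) (quoGr (stdGr k (Fin m)) (I k m j)) 0 := by
  intro t
  induction t with
  | zero =>
    intro j hj
    have hjm : j = m := by omega
    subst hjm
    let _ := quoDec (stdGr k (Fin j)) (I k j j) (I_hom j)
    have htor : gam (irrel (stdGr k (Fin j))).toIdeal (MvPolynomial (Fin j) k ⧸ I k j j) = ⊤ := by
      rw [eq_top_iff]
      rintro y -
      obtain ⟨p, rfl⟩ := Submodule.mkQ_surjective _ y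
      refine ⟨1, fun r hr => ?_⟩
      rw [pow_one] at hr
      rw [← map_smul, Submodule.mkQ_apply, Submodule.Quotient.mk_eq_zero, I_top, smul_eq_mul]
      exact Ideal.mul_mem_right _ _ hr
    refine (dreg_iff_of_torsion (ℳ := quoGr (stdGr k (Fin j)) (I k j j)) htor).2 ?_
    rintro e he _ ⟨p, hp, rfl⟩
    change (I k j j).mkQ p = 0
    rw [Submodule.mkQ_apply, Submodule.Quotient.mk_eq_zero, I_top]
    exact Ideal.subset_span ⟨e, he, hp⟩
  | succ t ih =>
    intro j hj
    have hjm : j < m := by omega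
    let _ := quoDec (stdGr k (Fin m)) (I k m j) (I_hom j)
    let _ := quoDec (stdGr k (Fin m)) (I k m (j + 1)) (I_hom (j + 1))
    have hX : (X ⟨j, hjm⟩ : MvPolynomial (Fin m) k) ∈ stdGr k (Fin m) 1 := X_mem_stdGr_one _
    have hXa : (X ⟨j, hjm⟩ : MvPolynomial (Fin m) k) ∈ (irrel (stdGr k (Fin m))).toIdeal :=
      X_mem_irrel _
    have hreg : ∀ y : MvPolynomial (Fin m) k ⧸ I k m j,
        (X ⟨j, hjm⟩ : MvPolynomial (Fin m) k) • y = 0 → y = 0 := by
      intro y hy
      obtain ⟨p, rfl⟩ := Submodule.mkQ_surjective _ y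
      rw [← map_smul, Submodule.mkQ_apply, Submodule.Quotient.mk_eq_zero, smul_eq_mul] at hy
      rw [Submodule.mkQ_apply, Submodule.Quotient.mk_eq_zero]
      exact regular hjm hy
    refine dreg_of_quotient (ℳ := quoGr (stdGr k (Fin m)) (I k m j))
      (𝒩 := quoGr (stdGr k (Fin m)) (I k m (j + 1))) hX hXa ?_
      (Submodule.mapQ _ _ LinearMap.id (I_le_succ j)) ?_ ?_ ?_ ?_ (ih (j + 1) (by omega))
    · intro y hy
      rw [hreg y hy]; exact Submodule.zero_mem _
    · intro y
      obtain ⟨p, rfl⟩ := Submodule.mkQ_surjective _ y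
      exact ⟨Submodule.Quotient.mk p, rfl⟩
    · rintro e _ ⟨p, hp, rfl⟩
      exact ⟨p, hp, rfl⟩
    · intro y
      obtain ⟨p, rfl⟩ := Submodule.mkQ_surjective _ y
      constructor
      · intro h
        have h1 : p ∈ I k m (j + 1) := (Submodule.Quotient.mk_eq_zero _).1 h
        rw [I_succ hjm, Submodule.mem_sup] at h1
        obtain ⟨q, hq, s, hs, rfl⟩ := h1
        obtain ⟨c, rfl⟩ := Ideal.mem_span_singleton'.1 hs
        refine ⟨(I k m j).mkQ c, ?_⟩
        rw [← map_smul, smul_eq_mul, map_add, mul_comm c]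
        rw [(Submodule.Quotient.mk_eq_zero (I k m j)).2 hq |> (show _ → (I k m j).mkQ q = 0 from id),
          zero_add]
      · rintro ⟨z, hz⟩
        obtain ⟨c, rfl⟩ := Submodule.mkQ_surjective _ z
        rw [← hz]
        rw [← map_smul]
        refine (Submodule.Quotient.mk_eq_zero (I k m (j + 1))).2 ?_
        change (X ⟨j, hjm⟩ : MvPolynomial (Fin m) k) * c ∈ _
        refine Ideal.mul_mem_right _ _ (Ideal.subset_span ⟨⟨j, hjm⟩, Nat.lt_succ_self j, rfl⟩)
    · intro e _
      exact van_zero_of_regular (ℳ := quoGr (stdGr k (Fin m)) (I k m j)) hXa hreg e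

/-- the polynomial ring is 0-regular -/
theorem dreg_poly : DReg (irrel (stdGr k (Fin m))) (stdGr k (Fin m)) 0 := by
  have h := dreg_quot (k := k) (m := m) m 0 (zero_add m)
  let _ := quoDec (stdGr k (Fin m)) (I k m 0) (I_hom 0)
  refine dreg_of_equiv (𝒩 := quoGr (stdGr k (Fin m)) (I k m 0))
    ((I k m 0).quotEquivOfEqBot I_zero).symm ?_ h
  intro e p hp
  exact ⟨p, hp, rfl⟩

/-- a finite direct sum of shifts `S(-deg b)` with all `deg b ≤ d` is `d`-regular -/
theorem dreg_free {n : ℕ} (deg : Fin n → ℤ) {d : ℤ} (hd : ∀ b, deg b ≤ d) :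
    DReg (irrel (stdGr k (Fin m))) (K859.Gr.shiftGr (stdGr k (Fin m)) deg) d := by
  intro i e hie
  refine van_of_sum (ℳ := stdGr k (Fin m)) (S := Fin n) deg
    (fun b => (LinearMap.proj b : (Fin n → MvPolynomial (Fin m) k) →ₗ[_] _))
    (fun b => LinearMap.single _ (fun _ => MvPolynomial (Fin m) k) b) ?_ ?_ ?_ ?_
  · intro b g v hv
    have := hv b
    rwa [sub_eq_add_neg] at this
  · intro b g p hp a
    rw [LinearMap.single_apply]
    by_cases hab : a = b
    · subst hab
      rw [Pi.single_eq_same, add_sub_cancel_right]; exact hp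
    · rw [Pi.single_eq_of_ne hab]; exact zero_mem _
  · intro v
    simp only [LinearMap.single_apply, LinearMap.proj_apply]
    exact Finset.univ_sum_single v
  · intro b
    exact dreg_poly i (e - deg b) (by have := hd b; omega)

end K859.PolyReg
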