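import Groth.Agent.GrSyz.K859.Tail
import Groth.Agent.GrSyz.K859.PolyReg
import Groth.Agent.GrSyz.K859.MinGen

/-!
# Regularity from the minimal resolution = regularity from graded local cohomology
-/

set_option autoImplicit false
set_option linter.unusedSectionVars false
universe u

open GrLC GrSyz DirectSum K759.Gr K759.GrObj K859.Gr K859.MinBasic K859.Van K859.DReg K859.Tail
  K859.Std K859.PolyReg MvPolynomial

namespace K859.Main

variable {k : Type u} [Field k] {m : ℕ}

/-- resolutions of finite length generated in degrees `≤ d + i` give `d`-regularity in the sense of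
local cohomology -/
theorem dreg_of_isGenLE : ∀ (n : ℕ) {M : Type u} [AddCommGroup M]
    [Module (MvPolynomial (Fin m) k) M] {τ : Type u} [SetLike τ M] [AddSubgroupClass τ M]
    {ℳ : ℤ → τ} [DirectSum.Decomposition ℳ] [SetLike.GradedSMul (stdGr k (Fin m)) ℳ]
    (F : FreeRes (stdGr k (Fin m)) ℳ) (d : ℤ), (∀ i, n ≤ i → F.rk i = 0) → F.IsGenLE d →
    DReg (irrel (stdGr k (Fin m))) ℳ d := by
  intro n
  induction n with
  | zero =>
    intro M _ _ τ _ _ ℳ _ _ F d hn _ i e _
    have : Subsingleton M := by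
      have h0 : IsEmpty (Fin (F.rk 0)) := by rw [hn 0 le_rfl]; exact Fin.isEmpty
      exact F.aug_surjective.subsingleton
    exact van_of_subsingleton i e
  | succ n ih =>
    intro M _ _ τ _ _ ℳ _ _ F d hn hF i e hie
    let dS := subDec (shiftGr (stdGr k (Fin m)) (F.deg 0)) _ (syz_hom F)
    have h1 : DReg (irrel (stdGr k (Fin m))) (syzGr F) (d + 1) := by
      refine ih (tail F) (d + 1) (fun i hi => hn (i + 1) (by omega)) ?_
      intro i b
      have := hF (i + 1) b
      change F.deg (i + 1) b ≤ _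
      push_cast at this
      omega
    have h2 : DReg (irrel (stdGr k (Fin m))) (shiftGr (stdGr k (Fin m)) (F.deg 0)) d :=
      dreg_free (F.deg 0) (fun b => by simpa using hF 0 b)
    exact van_right₀ (ℳ := syzGr F) (𝒩 := shiftGr (stdGr k (Fin m)) (F.deg 0)) (𝒬 := ℳ)
      (isGrHom_subtype _ _) (aug_gr F) (Submodule.injective_subtype _) (syz_exact F)
      F.aug_surjective (h2 i e hie) (h1 (i + 1) e (by push_cast; omega))

/-- the elements of `𝔪 M` are images of vectors with entries in `𝔪` -/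
theorem exists_of_mem_smul_top {R : Type u} [CommRing R] {σ' : Type u} [SetLike σ' R]
    {𝒜 : ℤ → σ'}
    {M : Type u} [AddCommGroup M] [Module R M] {τ : Type u} [SetLike τ M] [AddSubgroupClass τ M]
    {ℳ : ℤ → τ} [DirectSum.Decomposition ℳ] [SetLike.GradedSMul 𝒜 ℳ]
    (F : FreeRes 𝒜 ℳ) {𝔪 : Ideal R} {y : M} (hy : y ∈ 𝔪 • (⊤ : Submodule R M)) :
    ∃ v : Fin (F.rk 0) → R, (∀ b, v b ∈ 𝔪) ∧ F.augLin v = y := by
  induction hy using Submodule.smul_induction_on' with
  | smul r hr y _ =>
    obtain ⟨w, rfl⟩ := F.aug_surjective y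
    exact ⟨r • w, fun b => Ideal.mul_mem_right _ _ hr, map_smul _ _ _⟩
  | add x _ y _ hx hy =>
    obtain ⟨v, hv, rfl⟩ := hx
    obtain ⟨w, hw, rfl⟩ := hy
    exact ⟨v + w, fun b => Ideal.add_mem _ (hv b) (hw b), map_add _ _ _⟩

/-- a basis element of a minimal resolution does not map into `𝔪 M` -/
theorem aug_notMem {R : Type u} [CommRing R] {σ' : Type u} [SetLike σ' R] [AddSubgroupClass σ' R]
    {𝒜 : ℤ → σ'}
    {M : Type u} [AddCommGroup M] [Module R M] {τ : Type u} [SetLike τ M] [AddSubgroupClass τ M]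
    {ℳ : ℤ → τ} [DirectSum.Decomposition ℳ] [SetLike.GradedSMul 𝒜 ℳ]
    (F : FreeRes 𝒜 ℳ) {𝔪 : Ideal R} (h1 : (1 : R) ∉ 𝔪) (hF : F.IsMinimal 𝔪) (b : Fin (F.rk 0)) :
    F.aug b ∉ 𝔪 • (⊤ : Submodule R M) := by
  intro hy
  obtain ⟨v, hv, hv'⟩ := exists_of_mem_smul_top F hy
  have h2 : (Pi.single b 1 - v) ∈ LinearMap.ker F.augLin := by
    rw [LinearMap.mem_ker, map_sub, hv', sub_eq_zero]
    exact Fintype.linearCombination_apply_single R F.aug b 1 |>.trans (one_smul R _)
  have h3 := mem_of_mem_ker_aug F hF _ h2 b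
  rw [Pi.sub_apply, Pi.single_eq_same] at h3
  exact h1 (by simpa using Ideal.add_mem _ h3 (hv b))

/-- `d`-regularity in the sense of local cohomology implies that the terms of a minimal resolution
are generated in degrees `≤ d + i` -/
theorem isGenLE_of_dreg : ∀ (i : ℕ) {M : Type u} [AddCommGroup M]
    [Module (MvPolynomial (Fin m) k) M] {τ : Type u} [SetLike τ M] [AddSubgroupClass τ M]
    {ℳ : ℤ → τ} [DirectSum.Decomposition ℳ] [SetLike.GradedSMul (stdGr k (Fin m)) ℳ]
    (F : FreeRes (stdGr k (Fin m)) ℳ) (d : ℤ),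
    F.IsMinimal (irrel (stdGr k (Fin m))).toIdeal →
    DReg (irrel (stdGr k (Fin m))) ℳ d → ∀ b : Fin (F.rk i), F.deg i b ≤ d + i := by
  have hgen : (irrel (stdGr k (Fin m))).toIdeal
      = Ideal.span (stdGr k (Fin m) 1 : Set (MvPolynomial (Fin m) k)) := by
    apply le_antisymm
    · rw [irrel_eq_span_X]
      refine Ideal.span_mono ?_
      rintro _ ⟨j, rfl⟩
      exact X_mem_stdGr_one j
    · rw [Ideal.span_le]
      intro p hp
      exact Ideal.subset_span ⟨1, one_pos, hp⟩
  have hzero : ∀ {M : Type u} [AddCommGroup M]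
    [Module (MvPolynomial (Fin m) k) M] {τ : Type u} [SetLike τ M] [AddSubgroupClass τ M]
    {ℳ : ℤ → τ} [DirectSum.Decomposition ℳ] [SetLike.GradedSMul (stdGr k (Fin m)) ℳ]
    (F : FreeRes (stdGr k (Fin m)) ℳ) (d : ℤ),
    F.IsMinimal (irrel (stdGr k (Fin m))).toIdeal →
    DReg (irrel (stdGr k (Fin m))) ℳ d → ∀ b : Fin (F.rk 0), F.deg 0 b ≤ d := by
    intro M _ _ τ _ _ ℳ _ _ F d hF hd b
    by_contra hlt
    push Not at hlt
    refine aug_notMem F one_notMem_irrel hF b ?_
    refine K859.Diag.mem_smul_top ℳ hgen (e := F.deg 0 b) (fun p => ?_) (F.aug_mem b)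
    exact hd p _ (by omega)
  intro i
  induction i with
  | zero =>
    intro M _ _ τ _ _ ℳ _ _ F d hF hd b
    simpa using hzero F d hF hd b
  | succ i ih =>
    intro M _ _ τ _ _ ℳ _ _ F d hF hd b
    let dS := subDec (shiftGr (stdGr k (Fin m)) (F.deg 0)) _ (syz_hom F)
    have h2 : DReg (irrel (stdGr k (Fin m))) (shiftGr (stdGr k (Fin m)) (F.deg 0)) d :=
      dreg_free (F.deg 0) (hzero F d hF hd)
    have h3 : DReg (irrel (stdGr k (Fin m))) (syzGr F) (d + 1) := by
      intro j e hje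
      cases j with
      | zero =>
        have := van_left_zero (a := irrel (stdGr k (Fin m))) (ℳ := syzGr F)
          (𝒩 := shiftGr (stdGr k (Fin m)) (F.deg 0)) (𝒬 := ℳ)
          (isGrHomDeg_zero_iff.2 (isGrHom_subtype _ _)) (isGrHomDeg_zero_iff.2 (aug_gr F))
          (Submodule.injective_subtype _) (syz_exact F)
          F.aug_surjective (e := e) (by rw [add_zero]; exact h2 0 e (by omega))
        exact this
      | succ j =>
        exact van_left₀ (ℳ := syzGr F) (𝒩 := shiftGr (stdGr k (Fin m)) (F.deg 0)) (𝒬 := ℳ)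
          (isGrHom_subtype _ _) (aug_gr F) (Submodule.injective_subtype _) (syz_exact F)
          F.aug_surjective (hd j e (by push_cast at hje; omega))
          (h2 (j + 1) e (by omega))
    have h4 := ih (tail F) (d + 1) (fun i a b => hF (i + 1) a b) h3 b
    change F.deg (i + 1) b ≤ _ at h4
    push_cast
    omega

end K859.Main
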