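import Groth.Agent.GrSyz.K859.Std

/-!
# Elementary facts on minimal resolutions
-/

set_option autoImplicit false
universe u v

namespace K859.MinBasic

open MvPolynomial GrSyz K859.Std

section general

variable {R : Type u} [CommRing R] {σ' : Type u} [SetLike σ' R] [AddSubgroupClass σ' R]
  {𝒜 : ℤ → σ'}
  {M : Type u} [AddCommGroup M] [Module R M] {τ : Type u} [SetLike τ M] [AddSubgroupClass τ M]
  {ℳ : ℤ → τ} [DirectSum.Decomposition ℳ] [SetLike.GradedSMul 𝒜 ℳ]
  (F : FreeRes 𝒜 ℳ)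

/-- the kernel of the i-th differential lies in 𝔪 F_{i+1} for a minimal resolution -/
theorem mem_of_mem_ker {𝔪 : Ideal R} (hF : F.IsMinimal 𝔪) (i : ℕ) (v : Fin (F.rk (i + 1)) → R)
    (hv : v ∈ LinearMap.ker (F.dLin i)) (b : Fin (F.rk (i + 1))) : v b ∈ 𝔪 := by
  have h : v ∈ LinearMap.range (F.dLin (i + 1)) := by rw [← F.exact_succ i]; exact hv
  obtain ⟨w, rfl⟩ := h
  simp only [Matrix.mulVecLin_apply, Matrix.mulVec, dotProduct]
  exact Ideal.sum_mem _ fun j _ => Ideal.mul_mem_right _ _ (hF (i + 1) b j)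

theorem mem_of_mem_ker_aug {𝔪 : Ideal R} (hF : F.IsMinimal 𝔪) (v : Fin (F.rk 0) → R)
    (hv : v ∈ LinearMap.ker F.augLin) (b : Fin (F.rk 0)) : v b ∈ 𝔪 := by
  have h : v ∈ LinearMap.range (F.dLin 0) := by rw [← F.exact_zero]; exact hv
  obtain ⟨w, rfl⟩ := h
  simp only [Matrix.mulVecLin_apply, Matrix.mulVec, dotProduct]
  exact Ideal.sum_mem _ fun j _ => Ideal.mul_mem_right _ _ (hF 0 b j)

/-- no column of a differential of a minimal resolution is zero -/
theorem exists_entry_ne_zero {𝔪 : Ideal R} (h1 : (1 : R) ∉ 𝔪) (hF : F.IsMinimal 𝔪) (i : ℕ)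
    (b : Fin (F.rk (i + 1))) : ∃ a, F.d i a b ≠ 0 := by
  by_contra h
  push Not at h
  apply h1
  have h2 := mem_of_mem_ker F hF i (Pi.single b 1) (by
    rw [LinearMap.mem_ker, Matrix.mulVecLin_apply]
    ext a
    rw [Matrix.mulVec_single_one]
    exact h a) b
  rwa [Pi.single_eq_same] at h2

end general

end K859.MinBasic
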