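import Groth.Agent.GrSyz.K859.MinGen
import Mathlib.Algebra.Category.ModuleCat.Abelian
import Mathlib.Algebra.Category.ModuleCat.Projective
import Mathlib.Algebra.Homology.ShortComplex.ModuleCat
import Mathlib.CategoryTheory.Abelian.Projective.Dimension
import Mathlib.RingTheory.Filtration

/-!
# Length of the minimal resolution and the projective dimension
-/

set_option autoImplicit false
universe u v w

namespace K859.PD

open DirectSum K859.Gr K859.Std K859.MinBasic MvPolynomial GrSyz CategoryTheory

section general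

variable {R : Type u} [CommRing R]

/-- if the kernel of a surjection from a finite free module onto a projective module lies in 𝔪
times the free module, and the powers of 𝔪 intersect in zero, then it vanishes -/
theorem ker_eq_bot_of_projective {𝔪 : Ideal R} (h𝔪 : ⨅ i : ℕ, 𝔪 ^ i = ⊥) {n : ℕ}
    {P : Type w} [AddCommGroup P] [Module R P] [Module.Projective R P]
    (p : (Fin n → R) →ₗ[R] P) (hp : Function.Surjective p)
    (hker : ∀ v ∈ LinearMap.ker p, ∀ b, v b ∈ 𝔪) : LinearMap.ker p = ⊥ := by
  obtain ⟨s, hs⟩ := Module.projective_lifting_property p LinearMap.id hp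
  have hs' : ∀ x, p (s x) = x := fun x => LinearMap.congr_fun hs x
  -- the retraction onto the kernel
  let ρ : (Fin n → R) →ₗ[R] (Fin n → R) := LinearMap.id - s ∘ₗ p
  have hρ : ∀ v, ρ v ∈ LinearMap.ker p := by
    intro v
    simp only [ρ, LinearMap.mem_ker, LinearMap.sub_apply, LinearMap.id_apply, LinearMap.comp_apply,
      map_sub, hs', sub_self]
  have hρ' : ∀ v ∈ LinearMap.ker p, ρ v = v := by
    intro v hv
    rw [LinearMap.mem_ker] at hv
    simp only [ρ, LinearMap.sub_apply, LinearMap.id_apply, LinearMap.comp_apply, hv, map_zero,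
      sub_zero]
  have key : ∀ i : ℕ, ∀ v ∈ LinearMap.ker p, ∀ b, v b ∈ 𝔪 ^ i := by
    intro i
    induction i with
    | zero => intro v _ b; simp
    | succ i ih =>
      intro v hv b
      have h1 : v = ∑ a, v a • ρ (fun j => if a = j then 1 else 0) := by
        conv_lhs => rw [← hρ' v hv]
        exact LinearMap.pi_apply_eq_sum_univ ρ v
      rw [h1, Finset.sum_apply]
      refine Ideal.sum_mem _ fun a _ => ?_
      rw [Pi.smul_apply, smul_eq_mul, pow_succ']
      exact Ideal.mul_mem_mul (hker v hv a) (ih _ (hρ _) b)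
  rw [eq_bot_iff]
  intro v hv
  rw [Submodule.mem_bot]
  ext b
  have : v b ∈ ⨅ i : ℕ, 𝔪 ^ i := by
    rw [Submodule.mem_iInf]; exact fun i => key i v hv b
  rw [h𝔪] at this
  exact this

end general

section res

variable {R : Type u} [CommRing R] {σ' : Type u} [SetLike σ' R] [AddSubgroupClass σ' R]
  {𝒜 : ℤ → σ'}
  {M : Type u} [AddCommGroup M] [Module R M] {τ : Type u} [SetLike τ M] [AddSubgroupClass τ M]
  {ℳ : ℤ → τ} [DirectSum.Decomposition ℳ] [SetLike.GradedSMul 𝒜 ℳ]
  (F : FreeRes 𝒜 ℳ)

/-- the syzygy modules -/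
def syz : (j : ℕ) → Submodule R (Fin (F.rk j) → R)
  | 0 => LinearMap.ker F.augLin
  | j + 1 => LinearMap.ker (F.dLin j)

theorem syz_eq_range : ∀ j, syz F j = LinearMap.range (F.dLin j)
  | 0 => F.exact_zero
  | j + 1 => F.exact_succ j

/-- the modules resolved by the tails of the resolution -/
noncomputable def obj : ℕ → ModuleCat.{u} R
  | 0 => ModuleCat.of R M
  | j + 1 => ModuleCat.of R (syz F j)

/-- the covering of `obj j` -/
noncomputable def cover : (j : ℕ) → ((Fin (F.rk j) → R) →ₗ[R] obj F j)
  | 0 => F.augLin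
  | j + 1 => (F.dLin j).codRestrict (syz F j) (fun v => by
      rw [syz_eq_range F j]; exact ⟨v, rfl⟩)

theorem cover_surjective : ∀ j, Function.Surjective (cover F j)
  | 0 => F.aug_surjective
  | j + 1 => by
    rintro ⟨y, hy⟩
    have hy' := hy
    rw [syz_eq_range F j] at hy'
    obtain ⟨v, hv⟩ := hy'
    exact ⟨v, Subtype.ext hv⟩

theorem ker_cover : ∀ j, LinearMap.ker (cover F j) = syz F j
  | 0 => rfl
  | j + 1 => by
    change LinearMap.ker ((F.dLin j).codRestrict _ _) = _
    rw [LinearMap.ker_codRestrict]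
    rfl

/-- the short exact sequence 0 → syz j → F_j → obj j → 0 -/
noncomputable def ses (j : ℕ) : ShortComplex (ModuleCat.{u} R) := (cover F j).shortComplexKer

theorem ses_shortExact (j : ℕ) : (ses F j).ShortExact :=
  LinearMap.shortExact_shortComplexKer (cover_surjective F j)

noncomputable def sesIso (j : ℕ) : (ses F j).X₁ ≅ obj F (j + 1) :=
  (LinearEquiv.ofEq _ _ (ker_cover F j)).toModuleIso

theorem projective_mid (j : ℕ) : Projective (ses F j).X₂ := by
  change Projective (ModuleCat.of R (Fin (F.rk j) → R))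
  exact (IsProjective.iff_projective _).1 inferInstance

theorem lt_of_succ (j n : ℕ) (h : HasProjectiveDimensionLT (obj F (j + 1)) n) :
    HasProjectiveDimensionLT (obj F j) (n + 1) := by
  have := projective_mid F j
  exact (ses_shortExact F j).hasProjectiveDimensionLT_X₃ n
    (hasProjectiveDimensionLT_of_iso (sesIso F j).symm n) 
    (hasProjectiveDimensionLT_of_ge _ 1 (n + 1) (by omega))

theorem lt_succ_of (j n : ℕ) (h : HasProjectiveDimensionLT (obj F j) (n + 2)) :
    HasProjectiveDimensionLT (obj F (j + 1)) (n + 1) := by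
  have := ((ses_shortExact F j).hasProjectiveDimensionLT_X₃_iff n (projective_mid F j)).1 h
  exact hasProjectiveDimensionLT_of_iso (sesIso F j) (n + 1)

theorem lt_zero_of (j : ℕ) : ∀ n, HasProjectiveDimensionLT (obj F j) n →
    HasProjectiveDimensionLT (obj F 0) (n + j) := by
  induction j with
  | zero => intro n h; exact h
  | succ j ih =>
    intro n h
    have := ih (n + 1) (lt_of_succ F j n h)
    rwa [show n + 1 + j = n + (j + 1) by omega] at this

theorem lt_of_zero (j : ℕ) : ∀ n, HasProjectiveDimensionLT (obj F 0) (n + 1 + j) →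
    HasProjectiveDimensionLT (obj F j) (n + 1) := by
  induction j with
  | zero => intro n h; exact h
  | succ j ih =>
    intro n h
    exact lt_succ_of F j n (ih (n + 1) (by rwa [show n + 1 + 1 + j = n + 1 + (j + 1) by omega]))

/-- if all terms beyond the n-th vanish then the projective dimension is at most n -/
theorem hasProjectiveDimensionLE_of_hasLengthLE (n : ℕ) (h : F.HasLengthLE n) :
    HasProjectiveDimensionLE (ModuleCat.of R M) n := by
  have h0 : HasProjectiveDimensionLT (obj F (n + 1)) 0 := by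
    apply Limits.IsZero.hasProjectiveDimensionLT_zero
    have : Subsingleton (syz F n) := by
      rw [Submodule.subsingleton_iff_eq_bot, syz_eq_range, LinearMap.range_eq_bot]
      have : IsEmpty (Fin (F.rk (n + 1))) := by rw [h (n + 1) (by omega)]; exact Fin.isEmpty
      exact Subsingleton.elim _ _
    exact ModuleCat.isZero_of_subsingleton (ModuleCat.of R (syz F n))
  have := lt_zero_of F (n + 1) 0 h0
  rw [zero_add] at this
  exact this

/-- the n-th syzygy vanishes when the projective dimension is at most n and the resolution is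
minimal -/
theorem syz_eq_bot {𝔪 : Ideal R} (h𝔪 : ⨅ i : ℕ, 𝔪 ^ i = ⊥) (hF : F.IsMinimal 𝔪) (n : ℕ)
    (h : HasProjectiveDimensionLE (ModuleCat.of R M) n) : syz F n = ⊥ := by
  have h1 : HasProjectiveDimensionLT (obj F n) 1 := by
    refine lt_of_zero F n 0 ?_
    rw [zero_add, add_comm]
    exact h
  have h2 : Projective (obj F n) := projective_iff_hasProjectiveDimensionLT_one.2 h1
  have h3 : Module.Projective R (obj F n) := (IsProjective.iff_projective _).2 h2
  rw [← ker_cover]
  refine ker_eq_bot_of_projective h𝔪 (cover F n) (cover_surjective F n) ?_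
  rw [ker_cover]
  cases n with
  | zero => exact fun v hv b => mem_of_mem_ker_aug F hF v hv b
  | succ n => exact fun v hv b => mem_of_mem_ker F hF n v hv b

theorem rk_eq_zero_of_syz_eq_bot {𝔪 : Ideal R} (h1 : (1 : R) ∉ 𝔪) (hF : F.IsMinimal 𝔪) (n : ℕ)
    (h : syz F n = ⊥) : F.rk (n + 1) = 0 := by
  by_contra h0
  rw [syz_eq_range, LinearMap.range_eq_bot] at h
  let b : Fin (F.rk (n + 1)) := ⟨0, Nat.pos_of_ne_zero h0⟩
  apply h1
  have := mem_of_mem_ker F hF n (Pi.single b 1) (by
    rw [LinearMap.mem_ker]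
    exact LinearMap.congr_fun h _) b
  rwa [Pi.single_eq_same] at this

theorem hasLengthLE_of_syz_eq_bot {𝔪 : Ideal R} (h1 : (1 : R) ∉ 𝔪) (hF : F.IsMinimal 𝔪) (n : ℕ)
    (h : syz F n = ⊥) : F.HasLengthLE n := by
  have key : ∀ j, F.rk (n + 1 + j) = 0 := by
    intro j
    induction j with
    | zero => exact rk_eq_zero_of_syz_eq_bot F h1 hF n h
    | succ j ih =>
      refine rk_eq_zero_of_syz_eq_bot F h1 hF (n + 1 + j) ?_
      have : IsEmpty (Fin (F.rk (n + 1 + j))) := by rw [ih]; exact Fin.isEmpty
      exact Subsingleton.elim _ _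
  intro i hi
  obtain ⟨j, rfl⟩ := Nat.exists_eq_add_of_lt hi
  have := key j
  rwa [show n + 1 + j = n + j + 1 by omega] at this

theorem hasLengthLE_iff {𝔪 : Ideal R} (h1 : (1 : R) ∉ 𝔪) (h𝔪 : ⨅ i : ℕ, 𝔪 ^ i = ⊥)
    (hF : F.IsMinimal 𝔪) (n : ℕ) :
    F.HasLengthLE n ↔ HasProjectiveDimensionLE (ModuleCat.of R M) n :=
  ⟨hasProjectiveDimensionLE_of_hasLengthLE F n,
    fun h => hasLengthLE_of_syz_eq_bot F h1 hF n (syz_eq_bot F h𝔪 hF n h)⟩

end res

theorem iInf_pow_irrel (k : Type u) [Field k] (σ : Type v) [Finite σ] :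
    ⨅ i : ℕ, ((irrel (stdGr k σ)).toIdeal) ^ i = ⊥ :=
  Ideal.iInf_pow_eq_bot_of_isDomain _ irrel_ne_top

end K859.PD
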