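import Groth.Agent.GrSyz.K859.Final

/-!
# Modules of finite length; quotients by regular and quasi-regular linear forms
-/

set_option autoImplicit false
set_option linter.unusedSectionVars false
universe u

open GrLC GrSyz DirectSum K759.Gr K759.GrObj K859.Van K859.DReg K859.EndDeg K859.Main
  K859.Std MvPolynomial
open scoped Pointwise

namespace K859.Quot

section general

variable {ι : Type} [AddCommGroup ι] [DecidableEq ι]
variable {R : Type u} [CommRing R] {σ : Type u} [SetLike σ R]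
  [AddSubgroupClass σ R] {𝒜 : ι → σ} [GradedRing 𝒜]
variable {M : Type u} [AddCommGroup M] [Module R M] {τ : Type u} [SetLike τ M] [AddSubgroupClass τ M]
  {ℳ : ι → τ} [DirectSum.Decomposition ℳ] [SetLike.GradedSMul 𝒜 ℳ]

theorem smul_hom (a : HomogeneousIdeal 𝒜) {P : Submodule R M} (hP : P.IsHomogeneous ℳ) :
    (a.toIdeal • P).IsHomogeneous ℳ := by
  intro e m hm
  change cmp ℳ e m ∈ _
  induction hm using Submodule.smul_induction_on' with
  | smul r hr m hm =>
    rw [← sum_cmp 𝒜 r, Finset.sum_smul, map_sum]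
    refine Submodule.sum_mem _ fun j _ => ?_
    rw [cmp_smul' 𝒜 ℳ (cmp_mem 𝒜 j r)]
    exact Submodule.smul_mem_smul (a.2 j hr) (hP _ hm)
  | add x _ y _ hx hy => rw [map_add]; exact Submodule.add_mem _ hx hy

theorem pow_smul_hom (a : HomogeneousIdeal 𝒜) (t : ℕ) :
    (a.toIdeal ^ t • (⊤ : Submodule R M)).IsHomogeneous ℳ := by
  induction t with
  | zero =>
    rw [pow_zero, Ideal.one_eq_top, Submodule.top_smul]
    exact isHomogeneous_top ℳ
  | succ t ih =>
    rw [pow_succ', ← smul_eq_mul, Submodule.smul_assoc]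
    exact smul_hom a ih

end general

section poly

variable {k : Type u} [Field k] {m : ℕ}
  {M : Type u} [AddCommGroup M] [Module (MvPolynomial (Fin m) k) M]
  {τ : Type u} [SetLike τ M] [AddSubgroupClass τ M]
  {ℳ : ℤ → τ} [DirectSum.Decomposition ℳ] [SetLike.GradedSMul (stdGr k (Fin m)) ℳ]

/-- graded Nakayama -/
theorem nakayama (K : Submodule (MvPolynomial (Fin m) k) M) (hK : K.FG) (hh : K.IsHomogeneous ℳ)
    (h : K ≤ (irrel (stdGr k (Fin m))).toIdeal • K) : K = ⊥ := by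
  obtain ⟨n, x, e, h1, h2, h3⟩ := K859.MinGen.exists_irredundant_generators ℳ K hK
    (fun y hy i => hh i hy)
  rcases Nat.eq_zero_or_pos n with hn | hn
  · subst hn
    rw [← h2, Set.range_eq_empty, Submodule.span_empty]
  · exfalso
    let b : Fin n := ⟨0, hn⟩
    have hb : x b ∈ K := by rw [← h2]; exact Submodule.subset_span ⟨b, rfl⟩
    have hb' := h hb
    have key : ∀ y ∈ (irrel (stdGr k (Fin m))).toIdeal • K, ∃ v : Fin n → MvPolynomial (Fin m) k,
        (∀ a, v a ∈ (irrel (stdGr k (Fin m))).toIdeal) ∧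
        Fintype.linearCombination (MvPolynomial (Fin m) k) x v = y := by
      intro y hy
      induction hy using Submodule.smul_induction_on' with
      | smul r hr y hy =>
        rw [← h2, ← Fintype.range_linearCombination] at hy
        obtain ⟨w, rfl⟩ := hy
        exact ⟨r • w, fun b => Ideal.mul_mem_right _ _ hr, map_smul _ _ _⟩
      | add x _ y _ hx hy =>
        obtain ⟨v, hv, rfl⟩ := hx
        obtain ⟨w, hw, rfl⟩ := hy
        exact ⟨v + w, fun b => Ideal.add_mem _ (hv b) (hw b), map_add _ _ _⟩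
    obtain ⟨v, hv, hv'⟩ := key _ hb'
    have h4 := K859.MinGen.mem_irrel_of_relation ℳ x e h1 h3 (Pi.single b 1 - v) (by
      rw [map_sub, hv', sub_eq_zero]
      exact Fintype.linearCombination_apply_single _ x b 1 |>.trans (one_smul _ _)) b
    rw [Pi.sub_apply, Pi.single_eq_same] at h4
    exact one_notMem_irrel (k := k) (σ := Fin m) (by simpa using Ideal.add_mem _ h4 (hv b))

/-- graded modules of finite length are torsion -/
theorem gam_eq_top_of_isFiniteLength (ℳ : ℤ → τ) [DirectSum.Decomposition ℳ]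
    [SetLike.GradedSMul (stdGr k (Fin m)) ℳ] (hM : IsFiniteLength (MvPolynomial (Fin m) k) M) :
    gam (irrel (stdGr k (Fin m))).toIdeal M = ⊤ := by
  obtain ⟨hN, hA⟩ := isFiniteLength_iff_isNoetherian_isArtinian.1 hM
  let f : ℕ →o (Submodule (MvPolynomial (Fin m) k) M)ᵒᵈ :=
    ⟨fun t => OrderDual.toDual ((irrel (stdGr k (Fin m))).toIdeal ^ t • ⊤), fun s t hst =>
      Submodule.smul_mono_left (Ideal.pow_le_pow_right hst)⟩
  obtain ⟨t, ht⟩ := IsArtinian.monotone_stabilizes f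
  have h1 : (irrel (stdGr k (Fin m))).toIdeal ^ t • (⊤ : Submodule (MvPolynomial (Fin m) k) M)
      = (irrel (stdGr k (Fin m))).toIdeal ^ (t + 1) • ⊤ := ht (t + 1) (Nat.le_succ t)
  have h2 : (irrel (stdGr k (Fin m))).toIdeal ^ t • (⊤ : Submodule (MvPolynomial (Fin m) k) M)
      = ⊥ := by
    refine nakayama (ℳ := ℳ) _ (IsNoetherian.noetherian _)
      (pow_smul_hom (irrel (stdGr k (Fin m))) t) ?_
    rw [← Submodule.smul_assoc, smul_eq_mul, ← pow_succ', ← h1]
  rw [eq_top_iff]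
  rintro y -
  refine ⟨t, fun r hr => ?_⟩
  have : r • y ∈ (irrel (stdGr k (Fin m))).toIdeal ^ t
      • (⊤ : Submodule (MvPolynomial (Fin m) k) M) := Submodule.smul_mem_smul hr trivial
  rw [h2] at this
  exact this

end poly

section reg

variable {k : Type u} [Field k] {m : ℕ}
variable {M : Type u} [AddCommGroup M] [Module k M] [Module (MvPolynomial (Fin m) k) M]
    [IsScalarTower k (MvPolynomial (Fin m) k) M]
    {ℳ : ℤ → Submodule k M} [DirectSum.Decomposition ℳ] [SetLike.GradedSMul (stdGr k (Fin m)) ℳ]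
    [Module.Finite (MvPolynomial (Fin m) k) M]

theorem dreg_iff_endDeg_of_isFiniteLength {N : Type u} [AddCommGroup N]
    [Module (MvPolynomial (Fin m) k) N] {τ : Type u} [SetLike τ N] [AddSubgroupClass τ N]
    {𝒩 : ℤ → τ} [DirectSum.Decomposition 𝒩] [SetLike.GradedSMul (stdGr k (Fin m)) 𝒩]
    (hN : IsFiniteLength (MvPolynomial (Fin m) k) N) (d : ℤ) :
    DReg (irrel (stdGr k (Fin m))) 𝒩 d ↔
      ∀ e : ℤ, d < e → ∀ y ∈ 𝒩 e, y = 0 :=
  dreg_iff_of_torsion (gam_eq_top_of_isFiniteLength 𝒩 hN)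

theorem endDeg_le_iff' {N : Type u} [AddCommGroup N] [Module k N] (𝒩 : ℤ → Submodule k N) (d : ℤ) :
    endDeg (fun n => (𝒩 n).toAddSubgroup) ≤ ((d : WithTop ℤ) : WithBot (WithTop ℤ)) ↔
      ∀ e : ℤ, d < e → ∀ y ∈ 𝒩 e, y = 0 := by
  rw [endDeg_le_iff]
  refine forall_congr' fun e => imp_congr_right fun _ => ?_
  constructor
  · intro h y hy
    have : y ∈ (𝒩 e).toAddSubgroup := hy
    rw [h] at this
    exact this
  · intro h
    rw [eq_bot_iff]
    intro y hy
    exact h y hy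

/-- the regularity of a module of finite length -/
theorem reg_eq_of_isFiniteLength (hM : IsFiniteLength (MvPolynomial (Fin m) k) M) :
    reg (stdGr k (Fin m)) ℳ (irrel (stdGr k (Fin m))).toIdeal
      = endDeg (fun n => (ℳ n).toAddSubgroup) := by
  refine K859.EndDeg.eq_of_forall_le_iff fun d => ?_
  rw [K859.Final.reg_le_iff, dreg_iff_endDeg_of_isFiniteLength hM, endDeg_le_iff']

variable {N : Type u} [AddCommGroup N] [Module k N] [Module (MvPolynomial (Fin m) k) N]
    [IsScalarTower k (MvPolynomial (Fin m) k) N] [Module.Finite (MvPolynomial (Fin m) k) N]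
    {𝒩 : ℤ → Submodule k N} [DirectSum.Decomposition 𝒩] [SetLike.GradedSMul (stdGr k (Fin m)) 𝒩]

/-- the elements killed by a quasi-regular linear form are torsion -/
theorem mem_gam_of_quasiRegular (ℳ : ℤ → Submodule k M) [DirectSum.Decomposition ℳ]
    [SetLike.GradedSMul (stdGr k (Fin m)) ℳ] (x : MvPolynomial (Fin m) k)
    (hx : x ∈ GrSyz.stdGr k (Fin m) 1)
    (hq : IsFiniteLength (MvPolynomial (Fin m) k)
      ↥(Submodule.torsionBy (MvPolynomial (Fin m) k) M x)) (y : M) (hy : x • y = 0) :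
    y ∈ gam (irrel (stdGr k (Fin m))).toIdeal M := by
  have hth : (Submodule.torsionBy (MvPolynomial (Fin m) k) M x).IsHomogeneous ℳ := by
    intro e y hy
    change cmp ℳ e y ∈ _
    rw [Submodule.mem_torsionBy_iff] at hy ⊢
    rw [← cmp_smul (stdGr k (Fin m)) ℳ hx, hy, map_zero]
  let _ := subDec ℳ _ hth
  have := gam_eq_top_of_isFiniteLength
    (subGr ℳ (Submodule.torsionBy (MvPolynomial (Fin m) k) M x)) hq
  have h1 : (⟨y, (Submodule.mem_torsionBy_iff _ _).2 hy⟩ :
      Submodule.torsionBy (MvPolynomial (Fin m) k) M x) ∈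
      gam (irrel (stdGr k (Fin m))).toIdeal _ := by rw [this]; trivial
  obtain ⟨t, ht⟩ := h1
  exact ⟨t, fun r hr => congrArg Subtype.val (ht r hr)⟩

/-- passage to the quotient by a quasi-regular linear form -/
theorem reg_eq_sup (x : MvPolynomial (Fin m) k) (hx : x ∈ GrSyz.stdGr k (Fin m) 1)
    (hq : IsFiniteLength (MvPolynomial (Fin m) k)
      ↥(Submodule.torsionBy (MvPolynomial (Fin m) k) M x))
    (π : M →ₗ[MvPolynomial (Fin m) k] N) (hπ : Function.Surjective π) (hπg : GrLC.IsGrHom ℳ 𝒩 π)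
    (hker : LinearMap.ker π
      = LinearMap.range (x • (LinearMap.id : M →ₗ[MvPolynomial (Fin m) k] M)))
    (E : GrLC.StarInjRes (GrSyz.stdGr k (Fin m)) ℳ) :
    reg (stdGr k (Fin m)) ℳ (irrel (stdGr k (Fin m))).toIdeal =
      endDeg (E.Hgr (irrel (stdGr k (Fin m))) 0)
        ⊔ reg (stdGr k (Fin m)) 𝒩 (irrel (stdGr k (Fin m))).toIdeal := by
  have hxa : x ∈ (irrel (stdGr k (Fin m))).toIdeal := Ideal.subset_span ⟨1, one_pos, hx⟩
  have htor : ∀ y : M, x • y = 0 → y ∈ gam (irrel (stdGr k (Fin m))).toIdeal M :=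
    mem_gam_of_quasiRegular ℳ x hx hq
  refine K859.EndDeg.eq_of_forall_le_iff fun d => ?_
  rw [sup_le_iff, K859.Final.reg_le_iff, K859.Final.reg_le_iff, K859.Final.endDeg_zero_le_iff]
  refine dreg_iff hx hxa htor π hπ hπg fun y => ?_
  rw [← LinearMap.mem_ker, hker]
  rfl

/-- weak regularity passes to the quotient by a quasi-regular linear form (S15419) -/
theorem Hcomp_quotient_eq_bot (x : MvPolynomial (Fin m) k) (hx : x ∈ GrSyz.stdGr k (Fin m) 1)
    (hq : IsFiniteLength (MvPolynomial (Fin m) k)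
      ↥(Submodule.torsionBy (MvPolynomial (Fin m) k) M x))
    (π : M →ₗ[MvPolynomial (Fin m) k] N) (hπ : Function.Surjective π) (hπg : GrLC.IsGrHom ℳ 𝒩 π)
    (hker : LinearMap.ker π
      = LinearMap.range (x • (LinearMap.id : M →ₗ[MvPolynomial (Fin m) k] M)))
    (E : GrLC.StarInjRes (GrSyz.stdGr k (Fin m)) ℳ)
    (E' : GrLC.StarInjRes (GrSyz.stdGr k (Fin m)) 𝒩) (d : ℤ)
    (hM : ∀ i : ℕ, 0 < i → E.Hcomp (irrel (stdGr k (Fin m))) i (d - (i : ℤ) + 1) = ⊥) (i : ℕ)
    (hi : 0 < i) : E'.Hcomp (irrel (stdGr k (Fin m))) i (d - (i : ℤ) + 1) = ⊥ := by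
  rw [← van_iff]
  refine van_quotient hx (mem_gam_of_quasiRegular ℳ x hx hq) π hπ hπg (fun y => ?_)
    ((van_iff _ E).2 (hM i hi)) ((van_iff _ E).2 ?_)
  · rw [← LinearMap.mem_ker, hker]; rfl
  · have := hM (i + 1) (Nat.succ_pos i)
    rwa [show d - ((i + 1 : ℕ) : ℤ) + 1 = d - (i : ℤ) + 1 - 1 by push_cast; ring] at this

/-- regularity of `M` and of `M / x M` (S15420) -/
theorem dRegular_iff_quotient (x : MvPolynomial (Fin m) k) (hx : x ∈ GrSyz.stdGr k (Fin m) 1)
    (hq : IsFiniteLength (MvPolynomial (Fin m) k)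
      ↥(Submodule.torsionBy (MvPolynomial (Fin m) k) M x))
    (π : M →ₗ[MvPolynomial (Fin m) k] N) (hπ : Function.Surjective π) (hπg : GrLC.IsGrHom ℳ 𝒩 π)
    (hker : LinearMap.ker π
      = LinearMap.range (x • (LinearMap.id : M →ₗ[MvPolynomial (Fin m) k] M)))
    (E : GrLC.StarInjRes (GrSyz.stdGr k (Fin m)) ℳ)
    (E' : GrLC.StarInjRes (GrSyz.stdGr k (Fin m)) 𝒩) (d : ℤ) :
    (endDeg (E.Hgr (irrel (stdGr k (Fin m))) 0) ≤ ((d : WithTop ℤ) : WithBot (WithTop ℤ)) ∧
      ∀ i : ℕ, 0 < i → E.Hcomp (irrel (stdGr k (Fin m))) i (d - (i : ℤ) + 1) = ⊥) ↔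
      ((endDeg (E'.Hgr (irrel (stdGr k (Fin m))) 0) ≤ ((d : WithTop ℤ) : WithBot (WithTop ℤ)) ∧
        ∀ i : ℕ, 0 < i → E'.Hcomp (irrel (stdGr k (Fin m))) i (d - (i : ℤ) + 1) = ⊥) ∧
      endDeg (E.Hgr (irrel (stdGr k (Fin m))) 0)
        ≤ ((d : WithTop ℤ) : WithBot (WithTop ℤ))) := by
  rw [← K859.Final.dreg_iff_diag K859.Final.irrel_eq_span_one E d,
    ← K859.Final.dreg_iff_diag K859.Final.irrel_eq_span_one E' d,
    K859.Final.endDeg_zero_le_iff, and_comm]
  refine dreg_iff hx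
    (Ideal.subset_span ⟨1, one_pos, hx⟩ : x ∈ (irrel (stdGr k (Fin m))).toIdeal)
    (mem_gam_of_quasiRegular ℳ x hx hq) π hπ hπg fun y => ?_
  rw [← LinearMap.mem_ker, hker]
  rfl

end reg

section seq

variable {k : Type u} [Field k] {m : ℕ}

theorem dreg_iff_of_seq : ∀ (ys : List (MvPolynomial (Fin m) k))
    (_ : ∀ y ∈ ys, y ∈ stdGr k (Fin m) 1)
    {M : Type u} [AddCommGroup M] [Module (MvPolynomial (Fin m) k) M]
    {τ : Type u} [SetLike τ M] [AddSubgroupClass τ M]
    {ℳ : ℤ → τ} [DirectSum.Decomposition ℳ] [SetLike.GradedSMul (stdGr k (Fin m)) ℳ]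
    {N : Type u} [AddCommGroup N] [Module (MvPolynomial (Fin m) k) N]
    {τN : Type u} [SetLike τN N] [AddSubgroupClass τN N]
    {𝒩 : ℤ → τN} [DirectSum.Decomposition 𝒩] [SetLike.GradedSMul (stdGr k (Fin m)) 𝒩]
    (_ : RingTheory.Sequence.IsWeaklyRegular M ys)
    (π : M →ₗ[MvPolynomial (Fin m) k] N) (_ : Function.Surjective π) (_ : IsGrHom ℳ 𝒩 π)
    (_ : LinearMap.ker π = Ideal.ofList ys • (⊤ : Submodule (MvPolynomial (Fin m) k) M)) (d : ℤ),
    DReg (irrel (stdGr k (Fin m))) ℳ d ↔ DReg (irrel (stdGr k (Fin m))) 𝒩 d := by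
  intro ys
  induction ys with
  | nil =>
    intro _ M _ _ τ _ _ ℳ _ _ N _ _ τN _ _ 𝒩 _ _ _ π hπ hπg hker d
    rw [Ideal.ofList_nil, Submodule.bot_smul] at hker
    let f : M ≃ₗ[MvPolynomial (Fin m) k] N :=
      LinearEquiv.ofBijective π ⟨LinearMap.ker_eq_bot.1 hker, hπ⟩
    have hf : IsGrHom ℳ 𝒩 f.toLinearMap := hπg
    exact ⟨dreg_of_equiv f.symm (isGrHom_symm f hf), dreg_of_equiv f hf⟩
  | cons y ys ih =>
    intro hys M _ _ τ _ _ ℳ _ _ N _ _ τN _ _ 𝒩 _ _ hreg π hπ hπg hker d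
    rw [RingTheory.Sequence.isWeaklyRegular_cons_iff] at hreg
    have hy1 : y ∈ stdGr k (Fin m) 1 := hys y List.mem_cons_self
    have hya : y ∈ (irrel (stdGr k (Fin m))).toIdeal := Ideal.subset_span ⟨1, one_pos, hy1⟩
    have hy0 : ∀ z : M, y • z = 0 → z = 0 := fun z hz => hreg.1 (by simpa using hz)
    have hPh : (y • (⊤ : Submodule (MvPolynomial (Fin m) k) M)).IsHomogeneous ℳ := by
      rintro e _ ⟨z, -, rfl⟩
      change cmp ℳ e (y • z) ∈ _
      rw [cmp_smul' (stdGr k (Fin m)) ℳ hy1]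
      exact ⟨_, trivial, rfl⟩
    let _ := quoDec ℳ _ hPh
    have hPker : y • (⊤ : Submodule (MvPolynomial (Fin m) k) M) ≤ LinearMap.ker π := by
      rw [hker, Ideal.ofList_cons, Submodule.sup_smul]
      refine le_trans (le_of_eq ?_) le_sup_left
      exact (Submodule.ideal_span_singleton_smul y ⊤).symm
    have h1 : DReg (irrel (stdGr k (Fin m))) ℳ d ↔
        (∀ e : ℤ, d < e → Van (irrel (stdGr k (Fin m))) ℳ 0 e) ∧
        DReg (irrel (stdGr k (Fin m)))
          (quoGr ℳ (y • (⊤ : Submodule (MvPolynomial (Fin m) k) M))) d := by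
      refine dreg_iff hy1 hya (fun z hz => by rw [hy0 z hz]; exact Submodule.zero_mem _)
        (Submodule.mkQ _) (Submodule.mkQ_surjective _) (isGrHom_mkQ ℳ _) fun z => ?_
      rw [Submodule.mkQ_apply, Submodule.Quotient.mk_eq_zero]
      constructor
      · rintro ⟨w, -, rfl⟩; exact ⟨w, rfl⟩
      · rintro ⟨w, rfl⟩; exact ⟨w, trivial, rfl⟩
    have h2 : DReg (irrel (stdGr k (Fin m)))
          (quoGr ℳ (y • (⊤ : Submodule (MvPolynomial (Fin m) k) M))) d ↔
        DReg (irrel (stdGr k (Fin m))) 𝒩 d := by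
      refine ih (fun z hz => hys z (List.mem_cons_of_mem _ hz)) hreg.2
        (Submodule.liftQ _ π hPker) ?_ ?_ ?_ d
      · intro z
        obtain ⟨w, rfl⟩ := hπ z
        exact ⟨Submodule.Quotient.mk w, rfl⟩
      · rintro e _ ⟨z, hz, rfl⟩
        exact hπg e z hz
      · rw [Submodule.ker_liftQ, hker, Submodule.map_smul'', Ideal.ofList_cons,
          Submodule.sup_smul, Submodule.map_top, Submodule.range_mkQ]
        rw [sup_eq_right, Submodule.ideal_span_singleton_smul]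
        rintro _ ⟨z, -, rfl⟩
        obtain ⟨w, rfl⟩ := Submodule.mkQ_surjective _ z
        have : (y • (⊤ : Submodule (MvPolynomial (Fin m) k) M)).mkQ (y • w) = 0 :=
          (Submodule.Quotient.mk_eq_zero _).2 ⟨w, trivial, rfl⟩
        change y • (y • (⊤ : Submodule (MvPolynomial (Fin m) k) M)).mkQ w ∈ _
        rw [← map_smul, this]
        exact Submodule.zero_mem _
    rw [h1, h2]
    exact ⟨fun h => h.2, fun h => ⟨fun e _ => van_zero_of_regular hya hy0 e, h⟩⟩

end seq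

end K859.Quot
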