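import Groth.Agent.GrSyz.K859.MinBasic
import Groth.Agent.GrSyz.K859.Irred
import Groth.Agent.GrSyz.K859.Gr
import Groth.Agent.GrLC.K759.GrObj
import Mathlib.Algebra.Exact.Basic

/-!
# The tail of a graded free resolution resolves the first syzygy module
-/

set_option autoImplicit false
set_option linter.unusedSectionVars false
universe u

open GrLC GrSyz DirectSum K759.Gr K759.GrObj K859.Gr K859.MinBasic K859.Irred

namespace K859.Tail

variable {R : Type u} [CommRing R] {σ' : Type u} [SetLike σ' R] [AddSubgroupClass σ' R]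
  {𝒜 : ℤ → σ'} [GradedRing 𝒜]
  {M : Type u} [AddCommGroup M] [Module R M] {τ : Type u} [SetLike τ M] [AddSubgroupClass τ M]
  {ℳ : ℤ → τ} [DirectSum.Decomposition ℳ] [SetLike.GradedSMul 𝒜 ℳ]
  (F : FreeRes 𝒜 ℳ)

theorem aug_gr : IsGrHom (shiftGr 𝒜 (F.deg 0)) ℳ F.augLin := by
  intro e v hv
  rw [Fintype.linearCombination_apply]
  refine sum_mem fun b _ => ?_
  have := smul_mem 𝒜 ℳ (hv b) (F.aug_mem b)
  rwa [sub_add_cancel] at this

theorem syz_hom : (LinearMap.ker F.augLin).IsHomogeneous (shiftGr 𝒜 (F.deg 0)) :=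
  isHomogeneous_ker (aug_gr F)

/-- the grading of the first syzygy module -/
abbrev syzGr : ℤ → AddSubgroup (LinearMap.ker F.augLin) :=
  subGr (shiftGr 𝒜 (F.deg 0)) (LinearMap.ker F.augLin)

theorem syz_exact : Function.Exact (LinearMap.ker F.augLin).subtype F.augLin := by
  rw [LinearMap.exact_iff, Submodule.range_subtype]

/-- the columns of the first differential, in the syzygy module -/
def tailAug (b : Fin (F.rk 1)) : LinearMap.ker F.augLin :=
  ⟨fun a => F.d 0 a b, by
    rw [F.exact_zero]
    refine ⟨Pi.single b 1, ?_⟩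
    rw [Matrix.mulVecLin_apply, Matrix.mulVec_single_one]
    rfl⟩

theorem tailAug_lin (v : Fin (F.rk 1) → R) :
    ((Fintype.linearCombination R (tailAug F) v : LinearMap.ker F.augLin) : Fin (F.rk 0) → R)
      = F.dLin 0 v := by
  rw [← linearCombination_cols, Fintype.linearCombination_apply, Fintype.linearCombination_apply,
    AddSubmonoidClass.coe_finsetSum]
  rfl

/-- the tail of a resolution -/
def tail :
    letI := subDec (shiftGr 𝒜 (F.deg 0)) _ (syz_hom F)
    FreeRes 𝒜 (syzGr F) :=
  letI := subDec (shiftGr 𝒜 (F.deg 0)) _ (syz_hom F)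
  { rk := fun i => F.rk (i + 1)
    deg := fun i => F.deg (i + 1)
    d := fun i => F.d (i + 1)
    aug := tailAug F
    d_mem := fun i => F.d_mem (i + 1)
    aug_mem := fun b a => F.d_mem 0 a b
    aug_surjective := by
      rintro ⟨v, hv⟩
      have hv' := hv
      rw [F.exact_zero] at hv'
      obtain ⟨w, hw⟩ := hv'
      exact ⟨w, Subtype.ext ((tailAug_lin F w).trans hw)⟩
    exact_zero := by
      rw [← F.exact_succ 0]
      ext v
      rw [LinearMap.mem_ker, LinearMap.mem_ker, ← Subtype.coe_inj, tailAug_lin]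
      rfl
    exact_succ := fun i => F.exact_succ (i + 1) }

end K859.Tail
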